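import Cfsg.Agent.Lib.UFourThreeSix.Data

/-!
Arithmetic on codes for the fields of four and nine elements, and the finite checks on the tables.
-/

set_option autoImplicit false
set_option Elab.async false

namespace CfsgLib.U43Six

/-- Digit `i` in base 4. -/
def dg4 (c i : ℕ) : ℕ := (c >>> (2 * i)) &&& 3

/-- Digit `i` in base 16. -/
def dg9 (c i : ℕ) : ℕ := ((c >>> (4 * i)) &&& 15) % 9

/-- Product in the field of four elements with codes `0, 1, ω, ω + 1`. -/
def m4 (a b : ℕ) : ℕ :=
  [0, 0, 0, 0, 0, 1, 2, 3, 0, 2, 3, 1, 0, 3, 1, 2].getD (4 * a + b) 0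

/-- Sum in the field of nine elements, `a + 3 b` standing for `a + b i`. -/
def a9 (x y : ℕ) : ℕ := (x % 3 + y % 3) % 3 + 3 * ((x / 3 + y / 3) % 3)

/-- Product in the field of nine elements. -/
def m9 (x y : ℕ) : ℕ :=
  ((x % 3) * (y % 3) + 2 * ((x / 3) * (y / 3))) % 3 +
    3 * (((x % 3) * (y / 3) + (x / 3) * (y % 3)) % 3)

/-- Conjugate. -/
def c9 (x : ℕ) : ℕ := m9 x (m9 x x)

/-- Hermitian form on four coordinates. -/
def h9 (u v : ℕ → ℕ) : ℕ :=
  a9 (a9 (m9 (u 0) (c9 (v 0))) (m9 (u 1) (c9 (v 1)))) (a9 (m9 (u 2) (c9 (v 2))) (m9 (u 3) (c9 (v 3))))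

/-- Entry of the matrix of generator `g` over nine elements. -/
def aEnt (g i k : ℕ) : ℕ := (aTab.getD g []).getD (4 * i + k) 0 % 9

/-- Generator `g` over nine elements applied to a vector. -/
def aApply (g : ℕ) (v : ℕ → ℕ) (i : ℕ) : ℕ :=
  a9 (a9 (m9 (aEnt g i 0) (v 0)) (m9 (aEnt g i 1) (v 1)))
    (a9 (m9 (aEnt g i 2) (v 2)) (m9 (aEnt g i 3) (v 3)))

/-- The diagonal entries of the first generator. -/
def tauC (i : ℕ) : ℕ := if i < 3 then 2 else 1

/-- Source coordinate of the second generator. -/
def sg1 (i : ℕ) : ℕ := [2, 0, 1, 3, 4, 5].getD i 0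

/-- Source coordinate of the third generator. -/
def sg2 (i : ℕ) : ℕ := [0, 5, 1, 2, 3, 4].getD i 0

/-- The sum of six coordinates. -/
def sum6 (v : ℕ → ℕ) : ℕ := Nat.xor (Nat.xor (Nat.xor (v 0) (v 1)) (Nat.xor (v 2) (v 3))) (Nat.xor (v 4) (v 5))

/-- The transvection with centre the all-one vector. -/
def tApply (v : ℕ → ℕ) (i : ℕ) : ℕ := Nat.xor (v i) (sum6 v)

/-- The first generator over four elements. -/
def tauApply (v : ℕ → ℕ) (i : ℕ) : ℕ := m4 (tauC i) (v i)

/-- Generator `g` over four elements applied to a vector. -/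
def bApply (g : ℕ) (v : ℕ → ℕ) (i : ℕ) : ℕ :=
  match g with
  | 0 => tauApply v i
  | 1 => v (sg1 i)
  | 2 => v (sg2 i)
  | _ => tApply (tauApply (tApply v)) i

/-- Point `i` of frame `j`. -/
def fpt (j i : ℕ) : ℕ := (fTab.getD j []).getD i 0

/-- Packed first spanning vector of line `j`. -/
def lu (j : ℕ) : ℕ := (lTab.getD j (0, 0)).1

/-- Packed second spanning vector of line `j`. -/
def lw (j : ℕ) : ℕ := (lTab.getD j (0, 0)).2

/-- Image of `j` under generator `g`. -/
def img (g j : ℕ) : ℕ := (iTab.getD g []).getD j 0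

/-- The action of generator `g` on line `j` and frame `j`. -/
def okAct (g j : ℕ) : Bool :=
  let k := img g j
  let co := (cTab.getD g []).getD j 0
  let pc := (pTab.getD g []).getD j 0
  decide (k < 112) &&
    ((List.range 4).all fun i =>
      aApply g (dg9 (lu j)) i == a9 (m9 (dg9 co 0) (dg9 (lu k) i)) (m9 (dg9 co 1) (dg9 (lw k) i)) &&
      aApply g (dg9 (lw j)) i == a9 (m9 (dg9 co 2) (dg9 (lu k) i)) (m9 (dg9 co 3) (dg9 (lw k) i))) &&
    ((List.range 6).all fun n =>
      let d := pc / 18 ^ n % 18
      (List.range 6).all fun i => bApply g (dg4 (fpt j n)) i == m4 (d / 6 + 1) (dg4 (fpt k (d % 6)) i))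

theorem okAct_all : ((List.range 4).all fun g => (List.range 112).all fun j => okAct g j) = true := by
  decide +kernel

/-- Lines are totally isotropic and distinct lines are not orthogonal. -/
def okLine (j k : ℕ) : Bool :=
  let z := h9 (dg9 (lu j)) (dg9 (lu k)) == 0 && h9 (dg9 (lu j)) (dg9 (lw k)) == 0 &&
    h9 (dg9 (lw j)) (dg9 (lu k)) == 0 && h9 (dg9 (lw j)) (dg9 (lw k)) == 0
  if j == k then z else !z

theorem okLine_all : ((List.range 112).all fun j => (List.range 112).all fun k => okLine j k) = true := by
  decide +kernel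

/-- Entries of the unitary matrices, their orders, and the transvection. -/
def okMat : Bool :=
  ((List.range 4).all fun g => (List.range 4).all fun a => (List.range 4).all fun b =>
    h9 (fun i => aEnt g i a) (fun i => aEnt g i b) == (if a == b then 1 else 0)) &&
  ((List.range 4).all fun g => (List.range 4).all fun a => (List.range 4).all fun i =>
    let e := fun x => if x == a then 1 else 0
    let r := aApply g (aApply g (aApply g e))
    (if g == 2 then aApply g (aApply g (aApply g (aApply g (aApply g e)))) i else r i) == e i) &&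
  ((List.range 4).all fun a => (List.range 4).all fun i =>
    let v := (tTab.getD 0 (0, 0, 0, 0)).1
    let e := fun x => if x == a then 1 else 0
    aApply 0 e i == a9 (e i) (m9 (m9 cZero (h9 e (dg9 v))) (dg9 v i))) &&
  m9 cZero (m9 cZero cZero) == m9 2 cZero && cZero != 0 &&
  h9 (dg9 (tTab.getD 0 (0, 0, 0, 0)).1) (dg9 (tTab.getD 0 (0, 0, 0, 0)).1) == 0

theorem okMat_all : okMat = true := by decide +kernel

/-- Each isotropic point is the image of an earlier one. -/
def okTree (k : ℕ) : Bool :=
  match tTab.getD k (0, 0, 0, 0) with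
  | (p, par, g, s) => k == 0 || (decide (par < k) && decide (g < 4) && decide (0 < s) && decide (s < 9) &&
      (List.range 4).all fun i => aApply g (dg9 (tTab.getD par (0, 0, 0, 0)).1) i == m9 s (dg9 p i))

theorem okTree_all : ((List.range 280).all okTree) = true := by decide +kernel

/-- The vector with the given coordinates and first non-zero one equal to `1` at position `f`. -/
def canon (f a b c : ℕ) : ℕ → ℕ := fun i =>
  if i < f then 0 else if i == f then 1 else if i == f + 1 then a else if i == f + 2 then b else c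

/-- The canonical isotropic vectors are listed. -/
def okCover (f a b c : ℕ) : Bool :=
  h9 (canon f a b c) (canon f a b c) != 0 ||
    tTab.any fun t => (List.range 4).all fun i => dg9 t.1 i == canon f a b c i

theorem okCover_all : ((List.range 4).all fun f => (List.range (if f ≤ 2 then 9 else 1)).all fun a =>
    (List.range (if f ≤ 1 then 9 else 1)).all fun b => (List.range (if f = 0 then 9 else 1)).all fun c =>
      okCover f a b c) = true := by
  decide +kernel

/-- Exponents of the four diagonal twists. -/
def dExp (n i : ℕ) : ℕ :=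
  if n = 0 then 0 else if i + 2 = 2 * n then 1 else if i + 1 = 2 * n then 2 else 0

/-- Code of a power of `ω`. -/
def pw (e : ℕ) : ℕ := [1, 2, 3].getD e 1

/-- The twisted frames are listed, and the standard frame is frame `0`. -/
def okWit : Bool :=
  ((List.range 4).all fun n =>
    match wTab.getD n (0, 0) with
    | (k, pc) => decide (k < 112) && (List.range 6).all fun a =>
        let d := pc / 18 ^ a % 18
        (List.range 6).all fun i =>
          m4 (d / 6 + 1) (dg4 (fpt k (d % 6)) i) == (if i == a then 0 else pw (dExp n i))) &&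
  ((List.range 6).all fun a => (List.range 6).all fun i =>
    dg4 (fpt 0 a) i == (if i == a then 1 else 0)) &&
  ((List.range 112).all fun k => (List.range 6).all fun n => decide (fpt k n < 4096) && fpt k n != 0)

theorem okWit_all : okWit = true := by decide +kernel

/-- A point with support missing exactly coordinate `a`. -/
def misses (p a : ℕ) : Bool := (List.range 6).all fun i => (dg4 p i == 0) == (i == a)

/-- Two points of one frame missing coordinates `0` and `1` come from a twist of determinant one. -/
def okTwist (k m n : ℕ) : Bool :=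
  let p := fpt k m
  let q := fpt k n
  !(misses p 0 && misses q 1) ||
    m4 (m4 (m4 (dg4 p 1) (dg4 p 2)) (m4 (dg4 p 3) (dg4 p 4)))
      (m4 (m4 (dg4 p 5) (dg4 q 0)) (m4 (dg4 p 2) (m4 (dg4 q 2) (dg4 q 2)))) == 1

theorem okTwist_all : ((List.range 112).all fun k => (List.range 6).all fun m => (List.range 6).all fun n =>
    okTwist k m n) = true := by
  decide +kernel

theorem m4_lt : ∀ a b : Fin 4, m4 a b < 4 := by decide

theorem m9_a9_lt : ∀ a b : Fin 9, m9 a b < 9 ∧ a9 a b < 9 := by decide

end CfsgLib.U43Six
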