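import Mathlib
import Cfsg.Agent.Lib.UFourThreeSix.Check

/-!
The fields of four and nine elements as sets of codes.
-/

set_option autoImplicit false
set_option linter.unusedSectionVars false

namespace CfsgLib.U43Six

section Four

variable {F : Type*} [Field F] [Fintype F]

/-- The field element with code `a`. -/
def e4 (ω : F) (a : ℕ) : F := [0, 1, ω, ω + 1].getD a 0

/-- A choice of primitive cube root of unity. -/
structure Four (F : Type*) [Field F] [Fintype F] where
  /-- The root. -/
  ω : F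
  card : Fintype.card F = 4
  two : (2 : F) = 0
  root : ω ^ 2 + ω + 1 = 0

theorem exists_four (hF : Fintype.card F = 4) : Nonempty (Four F) := by
  classical
  have h2 : (2 : F) = 0 := by
    have h : ((Fintype.card F : ℕ) : F) = 0 := FiniteField.cast_card_eq_zero F
    rw [hF] at h
    have : (2 : F) * 2 = 0 := by norm_num at h ⊢; exact h
    exact (mul_self_eq_zero.1 this)
  obtain ⟨ω, -, hω⟩ := Finset.exists_mem_notMem_of_card_lt_card (s := ({0, 1} : Finset F)) (t := Finset.univ)
    (by rw [Finset.card_univ, hF]; exact (Finset.card_le_two).trans_lt (by norm_num))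
  simp only [Finset.mem_insert, Finset.mem_singleton, not_or] at hω
  have h3 : ω ^ 3 = 1 := by
    have := FiniteField.pow_card_sub_one_eq_one ω hω.1
    rwa [hF] at this
  have : (ω - 1) * (ω ^ 2 + ω + 1) = 0 := by linear_combination h3
  exact ⟨⟨ω, hF, h2, (mul_eq_zero.1 this).resolve_left (sub_ne_zero.2 hω.2)⟩⟩

variable (D : Four F)

theorem Four.add_self (D : Four F) (x : F) : x + x = 0 := by linear_combination x * D.two

theorem Four.neg_eq (D : Four F) (x : F) : -x = x := by linear_combination -x * D.two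

theorem Four.cube (D : Four F) {x : F} (hx : x ≠ 0) : x ^ 3 = 1 := by
  have := FiniteField.pow_card_sub_one_eq_one x hx
  rwa [D.card] at this

theorem Four.frob (D : Four F) (x : F) : x ^ 4 = x := by
  have := FiniteField.pow_card x
  rwa [D.card] at this

theorem Four.omega_ne : D.ω ≠ 0 := fun h => one_ne_zero (α := F) (by
  have := D.root; rw [h] at this; linear_combination this)

theorem Four.omega_ne_one : D.ω ≠ 1 := fun h => one_ne_zero (α := F) (by
  have := D.root; rw [h] at this; linear_combination this - D.two)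

theorem Four.omega_cube : D.ω ^ 3 = 1 := D.cube D.omega_ne

theorem e4_mul (a b : Fin 4) : e4 D.ω (m4 a b) = e4 D.ω a * e4 D.ω b := by
  fin_cases a <;> fin_cases b <;> simp [e4, m4] <;>
    first
      | ring1
      | linear_combination -D.root + (D.ω + 1) * D.two
      | linear_combination -D.root + D.ω * D.two
      | linear_combination -D.root + D.two
      | linear_combination -D.root

theorem e4_xor (a b : Fin 4) : e4 D.ω (Nat.xor a b) = e4 D.ω a + e4 D.ω b := by
  fin_cases a <;> fin_cases b <;> simp [e4] <;>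
    first
      | ring1
      | linear_combination D.two
      | linear_combination -D.two
      | linear_combination D.ω * D.two
      | linear_combination -D.ω * D.two
      | linear_combination (D.ω + 1) * D.two
      | linear_combination -(D.ω + 1) * D.two

theorem e4_mul_nat {a b : ℕ} (ha : a < 4) (hb : b < 4) : e4 D.ω (m4 a b) = e4 D.ω a * e4 D.ω b :=
  e4_mul D ⟨a, ha⟩ ⟨b, hb⟩

theorem e4_xor_nat {a b : ℕ} (ha : a < 4) (hb : b < 4) :
    e4 D.ω (Nat.xor a b) = e4 D.ω a + e4 D.ω b :=
  e4_xor D ⟨a, ha⟩ ⟨b, hb⟩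

theorem e4_zero : e4 D.ω 0 = 0 := rfl

theorem e4_one : e4 D.ω 1 = 1 := rfl

theorem Four.succ_ne : D.ω + 1 ≠ 0 := fun h => one_ne_zero (α := F) (by
  have := D.root; linear_combination this - D.ω * h)

theorem e4_ne_zero {a : ℕ} (ha : a < 4) (h0 : a ≠ 0) : e4 D.ω a ≠ 0 := by
  interval_cases a
  · omega
  · exact one_ne_zero
  · exact D.omega_ne
  · exact D.succ_ne

theorem e4_inj {a b : ℕ} (ha : a < 4) (hb : b < 4) (h : e4 D.ω a = e4 D.ω b) : a = b := by
  have hp1 : D.ω + 1 ≠ 1 := fun h0 => D.omega_ne (by linear_combination h0)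
  have hpω : D.ω + 1 ≠ D.ω := fun h0 => one_ne_zero (α := F) (by linear_combination h0)
  have := D.omega_ne; have := D.omega_ne_one; have := D.succ_ne
  interval_cases a <;> interval_cases b <;> simp_all [e4, eq_comm]

theorem e4_surj (D : Four F) (x : F) : ∃ a < 4, x = e4 D.ω a := by
  classical
  have hinj : Function.Injective fun a : Fin 4 => e4 D.ω a :=
    fun a b h => Fin.ext (e4_inj D a.2 b.2 h)
  obtain ⟨a, ha⟩ := ((Fintype.bijective_iff_injective_and_card _).2 ⟨hinj, by simp [D.card]⟩).2 x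
  exact ⟨a, a.2, ha.symm⟩

theorem dg4_lt (c i : ℕ) : dg4 c i < 4 := Nat.lt_succ_of_le Nat.and_le_right

theorem m4_lt_nat {a b : ℕ} (ha : a < 4) (hb : b < 4) : m4 a b < 4 := m4_lt ⟨a, ha⟩ ⟨b, hb⟩

theorem xor_lt {a b : ℕ} (ha : a < 4) (hb : b < 4) : Nat.xor a b < 4 := Nat.xor_lt_two_pow (n := 2) ha hb

end Four

section Nine

variable {K : Type*} [Field K] [Fintype K]

/-- A choice of square root of `-1`. -/
structure Nine (K : Type*) [Field K] [Fintype K] where
  /-- The root. -/
  I : K
  card : Fintype.card K = 9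
  three : (3 : K) = 0
  root : I ^ 2 = -1

theorem exists_nine (hK : Fintype.card K = 9) : Nonempty (Nine K) := by
  have h3 : (3 : K) = 0 := by
    have h : ((Fintype.card K : ℕ) : K) = 0 := FiniteField.cast_card_eq_zero K
    rw [hK] at h
    have : (3 : K) * 3 = 0 := by norm_num at h ⊢; exact h
    exact (mul_self_eq_zero.1 this)
  obtain ⟨i, hi⟩ : IsSquare (-1 : K) := FiniteField.isSquare_neg_one_iff.2 (by rw [hK]; norm_num)
  exact ⟨⟨i, hK, h3, by rw [hi, sq]⟩⟩

variable (E : Nine K)

/-- The field element with code `x`. -/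
def Nine.e (x : ℕ) : K := ((x % 3 : ℕ) : K) + ((x / 3 : ℕ) : K) * E.I

theorem Nine.cast_mod (E : Nine K) (a : ℕ) : ((a % 3 : ℕ) : K) = (a : K) := by
  conv_rhs => rw [← Nat.div_add_mod a 3]
  rw [Nat.cast_add, Nat.cast_mul, show ((3 : ℕ) : K) = 0 by exact_mod_cast E.three, zero_mul, zero_add]

theorem Nine.digit (c d : ℕ) (hc : c < 3) : (c + 3 * d) % 3 = c ∧ (c + 3 * d) / 3 = d := by omega

theorem Nine.e_add (x y : ℕ) : E.e (a9 x y) = E.e x + E.e y := by
  obtain ⟨h1, h2⟩ := Nine.digit ((x % 3 + y % 3) % 3) ((x / 3 + y / 3) % 3) (Nat.mod_lt _ (by norm_num))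
  simp only [Nine.e, a9, h1, h2, E.cast_mod, Nat.cast_add]
  ring

theorem Nine.e_mul (x y : ℕ) : E.e (m9 x y) = E.e x * E.e y := by
  obtain ⟨h1, h2⟩ := Nine.digit (((x % 3) * (y % 3) + 2 * ((x / 3) * (y / 3))) % 3)
    (((x % 3) * (y / 3) + (x / 3) * (y % 3)) % 3) (Nat.mod_lt _ (by norm_num))
  simp only [Nine.e, m9, h1, h2, E.cast_mod, Nat.cast_add, Nat.cast_mul, Nat.cast_ofNat]
  linear_combination (-((x / 3 : ℕ) : K) * ((y / 3 : ℕ) : K)) * E.root +
    (((x / 3 : ℕ) : K) * ((y / 3 : ℕ) : K)) * E.three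

theorem Nine.e_zero : E.e 0 = 0 := by simp [Nine.e]

theorem Nine.e_one : E.e 1 = 1 := by simp [Nine.e]

theorem Nine.e_two : E.e 2 = -1 := by
  simp only [Nine.e, show 2 % 3 = 2 from rfl, show 2 / 3 = 0 from rfl, Nat.cast_zero, zero_mul, add_zero,
    Nat.cast_ofNat]
  linear_combination E.three

theorem Nine.natCast_inj (E : Nine K) {a b : ℕ} (ha : a < 3) (hb : b < 3) (h : (a : K) = b) : a = b := by
  have h2 : (2 : K) ≠ 0 := fun h0 => one_ne_zero (α := K) (by linear_combination E.three - h0)
  have h12 : (1 : K) ≠ 2 := fun h0 => one_ne_zero (α := K) (by linear_combination -h0)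
  interval_cases a <;> interval_cases b <;> simp_all [eq_comm]

theorem Nine.e_inj {x y : ℕ} (hx : x < 9) (hy : y < 9) (h : E.e x = E.e y) : x = y := by
  have key : ∀ a b c d : ℕ, a < 3 → b < 3 → c < 3 → d < 3 →
      (a : K) + (b : K) * E.I = (c : K) + (d : K) * E.I → a = c ∧ b = d := by
    intro a b c d ha hb hc hd hh
    have hbd : (b : K) = d := by
      by_contra hne
      have hsq : ((c : K) - a) ^ 2 = -((b : K) - d) ^ 2 := by
        linear_combination -((c : K) - a + ((b : K) - d) * E.I) * hh + ((b : K) - d) ^ 2 * E.root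
      have hp : ∀ z : K, (∃ n : ℕ, z = (n : K)) → z = 0 ∨ z ^ 2 = 1 := by
        rintro z ⟨n, rfl⟩
        rw [← E.cast_mod n]
        have : n % 3 = 0 ∨ n % 3 = 1 ∨ n % 3 = 2 := by omega
        rcases this with h | h | h <;> rw [h]
        · simp
        · simp
        · right; push_cast; linear_combination E.three
      have h1 := hp ((c : K) - a) ⟨c + 2 * a, by push_cast; linear_combination -(a : K) * E.three⟩
      have h2 := hp ((b : K) - d) ⟨b + 2 * d, by push_cast; linear_combination -(d : K) * E.three⟩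
      rcases h2 with h2 | h2
      · exact hne (sub_eq_zero.1 h2)
      · rcases h1 with h1 | h1
        · rw [h1, h2] at hsq; exact one_ne_zero (α := K) (by linear_combination hsq)
        · rw [h1, h2] at hsq; exact one_ne_zero (α := K) (by linear_combination E.three - hsq)
    exact ⟨E.natCast_inj ha hc (by rw [hbd] at hh; linear_combination hh), E.natCast_inj hb hd hbd⟩
  obtain ⟨e1, e2⟩ := key _ _ _ _ (Nat.mod_lt _ (by norm_num)) (by omega) (Nat.mod_lt _ (by norm_num))
    (by omega) h
  omega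

theorem Nine.e_ne_zero {x : ℕ} (hx : x < 9) (h0 : x ≠ 0) : E.e x ≠ 0 := fun h =>
  h0 (E.e_inj hx (by norm_num) (h.trans E.e_zero.symm))

theorem Nine.e_surj (z : K) : ∃ x < 9, z = E.e x := by
  classical
  have hinj : Function.Injective fun x : Fin 9 => E.e x := fun a b h => Fin.ext (E.e_inj a.2 b.2 h)
  obtain ⟨x, hx⟩ := ((Fintype.bijective_iff_injective_and_card _).2 ⟨hinj, by simp [E.card]⟩).2 z
  exact ⟨x, x.2, hx.symm⟩

theorem Nine.e_conj (x : ℕ) : E.e (c9 x) = E.e x ^ 3 := by rw [c9, E.e_mul, E.e_mul]; ring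

end Nine

end CfsgLib.U43Six
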