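import Cfsg.Agent.Lib.ClassicalGroups.UnitaryGen
import Cfsg.Agent.Lib.UFourThreeSix.Field

/-!
Diagonal, monomial and frame subgroups of `GU_6(2)`.
-/

set_option autoImplicit false
set_option linter.unusedSectionVars false

namespace CfsgLib.U43Six

open Matrix CfsgLib.ClassicalGroups

variable {F : Type*} [Field F] [Fintype F]

/-- The unitary group of dimension six. -/
abbrev G6 (F : Type*) [Field F] : Type _ := ↥(Cfsg.GU 6 F 2)

local notation "GU6" => G6 F
local notation "V6" => (Fin 6 → F)
local notation "𝕙" => Cfsg.hermForm 6 F 2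

/-- Action on column vectors. -/
def act (g : GU6) (x : V6) : V6 := g.1.val *ᵥ x

theorem act_mul (g h : GU6) (x : V6) : act (g * h) x = act g (act h x) := GU_mul_mulVec g h x

theorem act_one (x : V6) : act (1 : GU6) x = x := GU_one_mulVec x

theorem act_inv (g : GU6) (x : V6) : act g⁻¹ (act g x) = x := by
  rw [← act_mul, inv_mul_cancel, act_one]

theorem act_inv' (g : GU6) (x : V6) : act g (act g⁻¹ x) = x := by
  rw [← act_mul, mul_inv_cancel, act_one]

theorem act_smul (g : GU6) (s : F) (x : V6) : act g (s • x) = s • act g x := Matrix.mulVec_smul _ _ _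

theorem act_add (g : GU6) (x y : V6) : act g (x + y) = act g x + act g y := Matrix.mulVec_add _ _ _

theorem act_sum {ι : Type*} (s : Finset ι) (g : GU6) (f : ι → V6) :
    act g (∑ i ∈ s, f i) = ∑ i ∈ s, act g (f i) := Matrix.mulVec_sum _ _ _

theorem act_inj (g : GU6) {x y : V6} (h : act g x = act g y) : x = y := by
  rw [← act_inv g x, h, act_inv]

theorem act_zero (g : GU6) : act g (0 : V6) = 0 := Matrix.mulVec_zero _

theorem act_ext {g h : GU6} (H : ∀ i, act g (Pi.single i 1) = act h (Pi.single i 1)) : g = h :=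
  Subtype.ext (Units.ext (Matrix.ext_of_mulVec_single H))

theorem herm_act (g : GU6) (x y : V6) : 𝕙 (act g x) (act g y) = 𝕙 x y := mem_GU_iff.1 g.2 x y

theorem vec_sum (x : V6) : x = ∑ i, x i • (Pi.single i 1 : V6) := by
  funext k
  simp [Finset.sum_apply, Pi.single_apply]

section WithD

variable (D : Four F)

theorem Four.card' (D : Four F) : Fintype.card F = 2 ^ 2 := by rw [D.card]; rfl

theorem Four.unit_cube (D : Four F) (u : Fˣ) : u ^ 3 = 1 :=
  Units.ext (by rw [Units.val_pow_eq_pow_val]; exact D.cube u.ne_zero)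

theorem Four.unit_sq (D : Four F) (u : Fˣ) : (u : F) ^ 2 = (↑u⁻¹ : F) := by
  rw [← Units.val_pow_eq_pow_val]
  congr 1
  rw [eq_inv_iff_mul_eq_one, ← pow_succ]
  exact D.unit_cube u

theorem Four.card_units (D : Four F) : Nat.card Fˣ = 3 := by
  rw [Nat.card_units, Nat.card_eq_fintype_card, D.card]

/-- The cube root of unity as a unit. -/
noncomputable def Four.w (D : Four F) : Fˣ := Units.mk0 D.ω D.omega_ne

theorem Four.w_ne : D.w ≠ 1 := fun h => D.omega_ne_one (congrArg Units.val h)

/-! ### Diagonal elements -/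

theorem exists_dd (D : Four F) (c : Fin 6 → Fˣ) : ∃ g : GU6, ∀ x i, act g x i = (c i : F) * x i := by
  obtain ⟨g, hg⟩ := exists_GU_of_preserving D.card'
    (Matrix.toLin' (Matrix.diagonal fun i => (c i : F))) (fun u v => by
      simp only [Cfsg.hermForm, Matrix.toLin'_apply, Matrix.mulVec_diagonal]
      refine Finset.sum_congr rfl fun i _ => ?_
      rw [mul_pow, D.unit_sq]
      linear_combination (u i * v i ^ 2) * (Units.mul_inv (c i)))
  exact ⟨g, fun x i => by rw [act, hg, Matrix.toLin'_apply, Matrix.mulVec_diagonal]⟩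

/-- Diagonal elements. -/
noncomputable def dd (D : Four F) : (Fin 6 → Fˣ) →* GU6 where
  toFun c := (exists_dd D c).choose
  map_one' := act_ext fun i => funext fun k => by
    rw [(exists_dd D 1).choose_spec, act_one]; simp
  map_mul' c c' := act_ext fun i => funext fun k => by
    rw [(exists_dd D (c * c')).choose_spec, act_mul, (exists_dd D c).choose_spec,
      (exists_dd D c').choose_spec, Pi.mul_apply, Units.val_mul, mul_assoc]

theorem act_dd (c : Fin 6 → Fˣ) (x : V6) (i : Fin 6) : act (dd D c) x i = (c i : F) * x i :=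
  (exists_dd D c).choose_spec x i

theorem act_dd_single (c : Fin 6 → Fˣ) (i : Fin 6) :
    act (dd D c) (Pi.single i 1) = (c i : F) • Pi.single i 1 := funext fun k => by
  rw [act_dd]
  by_cases h : k = i
  · subst h; simp
  · simp [Pi.single_eq_of_ne h]

/-! ### Permutation elements -/

theorem exists_pm (D : Four F) (π : Equiv.Perm (Fin 6)) : ∃ g : GU6, ∀ x i, act g x i = x (π.symm i) := by
  obtain ⟨g, hg⟩ := exists_GU_of_preserving D.card' (LinearMap.funLeft F F π.symm) (fun u v => by
    simp only [Cfsg.hermForm, LinearMap.funLeft_apply]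
    exact Equiv.sum_comp π.symm (fun i => u i * v i ^ 2))
  exact ⟨g, fun x i => by rw [act, hg]; rfl⟩

/-- Permutation elements. -/
noncomputable def pm (D : Four F) : Equiv.Perm (Fin 6) →* GU6 where
  toFun π := (exists_pm D π).choose
  map_one' := act_ext fun i => funext fun k => by
    rw [(exists_pm D 1).choose_spec, act_one]; rfl
  map_mul' π π' := act_ext fun i => funext fun k => by
    rw [(exists_pm D (π * π')).choose_spec, act_mul, (exists_pm D π).choose_spec,
      (exists_pm D π').choose_spec]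
    rfl

theorem act_pm (π : Equiv.Perm (Fin 6)) (x : V6) (i : Fin 6) : act (pm D π) x i = x (π.symm i) :=
  (exists_pm D π).choose_spec x i

theorem act_pm_single (π : Equiv.Perm (Fin 6)) (i : Fin 6) :
    act (pm D π) (Pi.single i 1) = Pi.single (π i) 1 := funext fun k => by
  simp only [act_pm, Pi.single_apply, Equiv.symm_apply_eq]

theorem pm_mul_dd (π : Equiv.Perm (Fin 6)) (c : Fin 6 → Fˣ) :
    pm D π * dd D c = dd D (fun i => c (π.symm i)) * pm D π :=
  act_ext fun i => funext fun k => by rw [act_mul, act_mul, act_pm, act_dd, act_dd, act_pm]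

theorem mono_single (c : Fin 6 → Fˣ) (π : Equiv.Perm (Fin 6)) (i : Fin 6) :
    act (dd D c * pm D π) (Pi.single i 1) = (c (π i) : F) • Pi.single (π i) 1 := by
  rw [act_mul, act_pm_single, act_dd_single]

theorem mono_unique {c c' : Fin 6 → Fˣ} {π π' : Equiv.Perm (Fin 6)}
    (h : dd D c * pm D π = dd D c' * pm D π') : c = c' ∧ π = π' := by
  have key : ∀ i, π i = π' i ∧ c (π i) = c' (π i) := by
    intro i
    have h1 := congrFun (congrArg (fun g => act g (Pi.single i (1 : F))) h) (π i)
    simp only [mono_single, Pi.smul_apply, smul_eq_mul, Pi.single_eq_same, mul_one] at h1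
    by_cases he : π i = π' i
    · refine ⟨he, Units.ext ?_⟩
      rw [← he, Pi.single_eq_same, mul_one] at h1
      exact h1
    · rw [Pi.single_eq_of_ne he, mul_zero] at h1
      exact absurd h1 (c _).ne_zero
  refine ⟨funext fun k => ?_, Equiv.ext fun i => (key i).1⟩
  have := (key (π.symm k)).2
  rwa [Equiv.apply_symm_apply] at this

theorem dd_injective : Function.Injective (dd D) := fun c c' h =>
  (mono_unique D (π := 1) (π' := 1) (by simp [h])).1

/-! ### Determinant -/

/-- The determinant. -/
def detU : GU6 →* F where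
  toFun g := g.1.val.det
  map_one' := Matrix.det_one
  map_mul' g h := Matrix.det_mul _ _

theorem detU_dd (c : Fin 6 → Fˣ) : detU (dd D c) = ((∏ i, c i : Fˣ) : F) := by
  have h : (dd D c).1.val = Matrix.diagonal fun i => (c i : F) :=
    Matrix.ext_of_mulVec_single fun i => funext fun k => by
      rw [Matrix.mulVec_diagonal]; exact act_dd D c _ k
  show (dd D c).1.val.det = _
  rw [h, Matrix.det_diagonal, Units.coe_prod]

theorem detU_pm (π : Equiv.Perm (Fin 6)) : detU (pm D π) = 1 := by
  have h : (pm D π).1.val = π⁻¹.permMatrix F :=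
    Matrix.ext_of_mulVec_single fun i => funext fun k => by
      rw [Matrix.permMatrix_mulVec]
      exact act_pm D π _ k
  show (pm D π).1.val.det = 1
  rw [h, Matrix.det_permutation]
  rcases Int.units_eq_one_or (Equiv.Perm.sign π⁻¹) with h | h <;> rw [h]
  · simp
  · simpa using D.neg_eq 1

/-! ### The transvection with centre the all-one vector -/

theorem exists_tt (D : Four F) :
    ∃ g : GU6, (∀ x i, act g x i = x i + ∑ k, x k) ∧ detU g = 1 := by
  have h6 : (6 : F) = 0 := by linear_combination 3 * D.two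
  have hv : 𝕙 (fun _ => (1 : F)) (fun _ => (1 : F)) = 0 := by simpa [Cfsg.hermForm] using h6
  obtain ⟨g, hg, -⟩ := exists_tv D.card' hv (c := (1 : F)) (by rw [one_pow, D.neg_eq])
  refine ⟨g, fun x i => ?_, ?_⟩
  · rw [act, hg, unitaryTransvection_mulVec]
    simp [Cfsg.hermForm]
  · show g.1.val.det = 1
    rw [hg, unitaryTransvection_det _ _ hv]

/-- The transvection `x ↦ x + (Σ x) j`. -/
noncomputable def tt (D : Four F) : GU6 := (exists_tt D).choose

theorem act_tt (x : V6) (i : Fin 6) : act (tt D) x i = x i + ∑ k, x k := (exists_tt D).choose_spec.1 x i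

theorem detU_tt : detU (tt D) = 1 := (exists_tt D).choose_spec.2

theorem tt_mul_self : tt D * tt D = 1 := act_ext fun i => funext fun k => by
  rw [act_mul, act_one, act_tt]
  simp only [act_tt, Finset.sum_add_distrib, Finset.sum_const, Finset.card_univ, Fintype.card_fin,
    nsmul_eq_mul]
  push_cast
  linear_combination (4 * ∑ x, (Pi.single i (1 : F) : Fin 6 → F) x) * D.two

theorem pm_tt (π : Equiv.Perm (Fin 6)) : pm D π * tt D = tt D * pm D π :=
  act_ext fun i => funext fun k => by
    rw [act_mul, act_mul, act_pm, act_tt, act_tt, act_pm, ← Equiv.sum_comp π.symm]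
    simp only [act_pm]

/-! ### The diagonal subgroup of determinant one -/

/-- The product of six units. -/
def prodHom : (Fin 6 → Fˣ) →* Fˣ where
  toFun c := ∏ i, c i
  map_one' := by simp
  map_mul' a b := Finset.prod_mul_distrib

/-- Diagonal elements of determinant one. -/
noncomputable def Mgrp (D : Four F) : Subgroup GU6 := (prodHom (F := F)).ker.map (dd D)

theorem mem_Mgrp {g : GU6} : g ∈ Mgrp D ↔ ∃ c : Fin 6 → Fˣ, ∏ i, c i = 1 ∧ dd D c = g := Iff.rfl

theorem dd_mem_Mgrp {c : Fin 6 → Fˣ} : dd D c ∈ Mgrp D ↔ ∏ i, c i = 1 := by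
  refine ⟨fun ⟨c', h, e⟩ => ?_, fun h => ⟨c, h, rfl⟩⟩
  rw [← dd_injective D e]; exact h

theorem card_Mgrp : Nat.card (Mgrp D) = 243 := by
  rw [Mgrp, Subgroup.card_map_of_injective (dd_injective D)]
  have h := Subgroup.card_eq_card_quotient_mul_card_subgroup (prodHom (F := F)).ker
  have hs : Function.Surjective (prodHom (F := F)) := fun u => ⟨Pi.mulSingle 0 u, by
    show ∏ i : Fin 6, (Pi.mulSingle 0 u : Fin 6 → Fˣ) i = u
    exact Fintype.prod_pi_mulSingle' 0 u⟩
  rw [Nat.card_congr (QuotientGroup.quotientKerEquivOfSurjective _ hs).toEquiv, D.card_units,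
    Nat.card_pi] at h
  simp only [D.card_units, Finset.prod_const, Finset.card_univ, Fintype.card_fin] at h
  omega

/-- The diagonal element with entries `u` at `a` and `u⁻¹` at `b`. -/
def dab (u : Fˣ) (a b : Fin 6) : Fin 6 → Fˣ := Pi.mulSingle a u * Pi.mulSingle b u⁻¹

theorem dab_mem (u : Fˣ) (a b : Fin 6) : dd D (dab u a b) ∈ Mgrp D := by
  rw [dd_mem_Mgrp]
  simp only [dab, Pi.mul_apply, Finset.prod_mul_distrib]
  rw [Fintype.prod_pi_mulSingle', Fintype.prod_pi_mulSingle', mul_inv_cancel]

theorem Mgrp_comm {g h : GU6} (hg : g ∈ Mgrp D) (hh : h ∈ Mgrp D) : g * h = h * g := by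
  obtain ⟨c, -, rfl⟩ := (mem_Mgrp D).1 hg
  obtain ⟨c', -, rfl⟩ := (mem_Mgrp D).1 hh
  rw [← map_mul, ← map_mul, mul_comm]

theorem detU_Mgrp {g : GU6} (hg : g ∈ Mgrp D) : detU g = 1 := by
  obtain ⟨c, hc, rfl⟩ := (mem_Mgrp D).1 hg
  rw [detU_dd, hc, Units.val_one]

theorem scalar_mem (u : Fˣ) : dd D (fun _ => u) ∈ Mgrp D := by
  rw [dd_mem_Mgrp, Finset.prod_const, Finset.card_univ, Fintype.card_fin, show (6 : ℕ) = 3 * 2 from rfl,
    pow_mul, D.unit_cube, one_pow]

theorem scalar_comm (u : Fˣ) (g : GU6) : g * dd D (fun _ => u) = dd D (fun _ => u) * g :=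
  act_ext fun i => by
    rw [act_mul, act_mul, act_dd_single, act_smul]
    exact funext fun k => by rw [act_dd]; rfl

/-- A common eigenvector of the diagonal group is a multiple of a standard vector. -/
theorem eigen_single (v : V6) (hv : v ≠ 0) (h : ∀ m ∈ Mgrp D, ∃ l : F, act m v = l • v) :
    ∃ i, v i ≠ 0 ∧ v = v i • Pi.single i 1 := by
  obtain ⟨a, ha⟩ := Function.ne_iff.1 hv
  refine ⟨a, ha, funext fun b => ?_⟩
  by_cases hab : b = a
  · subst hab; simp
  · rw [Pi.smul_apply, Pi.single_eq_of_ne hab, smul_zero]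
    by_contra hb
    obtain ⟨x, hxa, hxb⟩ := (by decide : ∀ a b : Fin 6, ∃ x, x ≠ a ∧ x ≠ b) a b
    obtain ⟨l, hl⟩ := h _ (dab_mem D D.w a x)
    have e1 := congrFun hl a
    have e2 := congrFun hl b
    simp only [act_dd, dab, Pi.mul_apply, Pi.smul_apply, smul_eq_mul, Pi.mulSingle_eq_same,
      Pi.mulSingle_eq_of_ne hxa.symm, Pi.mulSingle_eq_of_ne hxb.symm, Pi.mulSingle_eq_of_ne hab,
      mul_one, Units.val_one, one_mul] at e1 e2
    have l1 : l = (D.w : F) := (mul_right_cancel₀ (by simpa using ha) e1).symm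
    have l2 : l = 1 := mul_right_cancel₀ hb (e2.symm.trans (one_mul _).symm)
    exact D.omega_ne_one (l1.symm.trans l2)

/-- An element permuting the coordinate lines is monomial. -/
theorem mono_of_lines (g : GU6)
    (he : ∀ i, ∃ k, (act g (Pi.single i 1)) k ≠ 0 ∧
      act g (Pi.single i 1) = (act g (Pi.single i 1)) k • Pi.single k 1) :
    ∃ (c : Fin 6 → Fˣ) (π : Equiv.Perm (Fin 6)), g = dd D c * pm D π := by
  classical
  choose k hk hg using he
  have hinj : Function.Injective k := by
    intro i j hij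
    by_contra hne
    have hgi := hg i
    have hgj := hg j
    rw [← hij] at hgj
    set a := (act g (Pi.single i 1)) (k i)
    set b := (act g (Pi.single j 1)) (k i)
    have : act g (b • Pi.single i 1) = act g (a • Pi.single j 1) := by
      rw [act_smul, act_smul, hgi, hgj, smul_smul, smul_smul, mul_comm]
    have := congrFun (act_inj g this) j
    simp [Ne.symm hne] at this
    exact hk i this.symm
  let π : Equiv.Perm (Fin 6) := Equiv.ofBijective k (Finite.injective_iff_bijective.1 hinj)
  refine ⟨fun j => Units.mk0 _ (hk (π.symm j)), π, act_ext fun i => ?_⟩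
  rw [mono_single]
  simp only [Units.val_mk0, Equiv.symm_apply_apply]
  exact hg i

/-- An element normalising the diagonal group is monomial. -/
theorem monomial_of_normalises (g : GU6) (h : ∀ m ∈ Mgrp D, g⁻¹ * m * g ∈ Mgrp D) :
    ∃ (c : Fin 6 → Fˣ) (π : Equiv.Perm (Fin 6)), g = dd D c * pm D π := by
  classical
  have he : ∀ i, ∃ k, (act g (Pi.single i 1)) k ≠ 0 ∧
      act g (Pi.single i 1) = (act g (Pi.single i 1)) k • Pi.single k 1 := by
    intro i
    refine eigen_single D _ (fun h0 => ?_) fun m hm => ?_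
    · have := congrFun (act_inj g (h0.trans (act_zero g).symm)) i
      simp at this
    · obtain ⟨c, -, e⟩ := (mem_Mgrp D).1 (h m hm)
      refine ⟨c i, ?_⟩
      have : m * g = g * dd D c := by rw [e]; group
      rw [← act_mul, this, act_mul, act_dd_single, act_smul]
  exact mono_of_lines D g he

/-! ### Frames of elementary abelian subgroups of order 243 -/

/-- Common eigenvectors. -/
def Eig (L : Set GU6) : Set V6 := {v | ∀ g ∈ L, ∃ l : F, act g v = l • v}

theorem eig_span (D : Four F) (L : List GU6) (hc : ∀ x ∈ L, ∀ y ∈ L, x * y = y * x)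
    (h3 : ∀ x ∈ L, x ^ 3 = 1) : Submodule.span F (Eig {g | g ∈ L}) = ⊤ := by
  induction L with
  | nil => exact eq_top_iff.2 fun v _ => Submodule.subset_span fun g hg => absurd hg (by simp)
  | cons x L ih =>
    rw [eq_top_iff, ← ih (fun a ha b hb => hc a (List.mem_cons_of_mem x ha) b (List.mem_cons_of_mem x hb))
      (fun a ha => h3 a (List.mem_cons_of_mem x ha)), Submodule.span_le]
    intro v hv
    have hx3 : act x (act x (act x v)) = v := by
      rw [← act_mul, ← act_mul]
      have := h3 x List.mem_cons_self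
      rw [pow_succ, pow_two, mul_assoc] at this
      rw [mul_assoc, this, act_one]
    have hcomm : ∀ g, g ∈ L → ∀ w, act g (act x w) = act x (act g w) := fun g hg w => by
      rw [← act_mul, ← act_mul, hc g (List.mem_cons_of_mem x hg) x List.mem_cons_self]
    have hmem : ∀ u : F, u ^ 3 = 1 →
        v + u • act x v + u ^ 2 • act x (act x v) ∈ Submodule.span F (Eig {g | g ∈ x :: L}) := by
      intro u hu
      refine Submodule.subset_span fun g hg => ?_
      rcases List.mem_cons.1 hg with rfl | hg
      · refine ⟨u ^ 2, ?_⟩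
        simp only [act_add, act_smul, hx3, smul_add, smul_smul]
        rw [show u ^ 2 * u = 1 by linear_combination hu, show u ^ 2 * u ^ 2 = u by linear_combination u * hu,
          one_smul]
        abel
      · obtain ⟨l, hl⟩ := hv g hg
        refine ⟨l, ?_⟩
        simp only [act_add, act_smul, hcomm g hg, hl, smul_add, smul_smul, mul_comm]
    have key : v = (v + (1 : F) • act x v + (1 : F) ^ 2 • act x (act x v)) +
        ((v + D.ω • act x v + D.ω ^ 2 • act x (act x v)) +
          (v + (D.ω ^ 2) • act x v + (D.ω ^ 2) ^ 2 • act x (act x v))) := by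
      funext k
      simp only [Pi.add_apply, Pi.smul_apply, smul_eq_mul]
      linear_combination (-(act x v k) - (D.ω ^ 2 - D.ω + 1) * act x (act x v) k) * D.root - v k * D.two
    show v ∈ Submodule.span F (Eig {g | g ∈ x :: L})
    rw [key]
    exact add_mem (hmem 1 (one_pow 3)) (add_mem (hmem _ D.omega_cube)
      (hmem _ (by rw [← pow_mul, mul_comm, pow_mul, D.omega_cube, one_pow])))

theorem herm_sum_left {ι : Type*} (s : Finset ι) (f : ι → V6) (y : V6) :
    𝕙 (∑ i ∈ s, f i) y = ∑ i ∈ s, 𝕙 (f i) y := by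
  classical
  induction s using Finset.induction_on with
  | empty => simp [hermForm_zero_left]
  | insert a t ha ih => rw [Finset.sum_insert ha, Finset.sum_insert ha, hermForm_add_left, ih]

theorem herm_sum_right (D : Four F) {ι : Type*} (s : Finset ι) (f : ι → V6) (x : V6) :
    𝕙 x (∑ i ∈ s, f i) = ∑ i ∈ s, 𝕙 x (f i) := by
  classical
  induction s using Finset.induction_on with
  | empty => simp [hermForm_zero_right D.card']
  | insert a t ha ih => rw [Finset.sum_insert ha, Finset.sum_insert ha, hermForm_add_right D.card', ih]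

/-- An elementary abelian subgroup of order 243 and determinant one is diagonal in some frame. -/
theorem exists_frame (S : Subgroup GU6) (hdet : ∀ g ∈ S, detU g = 1)
    (hab : ∀ g ∈ S, ∀ h ∈ S, g * h = h * g) (h3 : ∀ g ∈ S, g ^ 3 = 1) (hcard : Nat.card S = 243) :
    ∃ P : GU6, S = (Mgrp D).map (MulAut.conj P).toMonoidHom := by
  classical
  have : Finite S := Nat.finite_of_card_ne_zero (by omega)
  obtain ⟨L, hL⟩ : ∃ L : List GU6, ∀ g, g ∈ L ↔ g ∈ S :=
    ⟨(Set.toFinite (S : Set GU6)).toFinset.toList, fun g => by simp⟩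
  have hspan := eig_span D L (fun x hx y hy => hab x ((hL x).1 hx) y ((hL y).1 hy))
    (fun x hx => h3 x ((hL x).1 hx))
  obtain ⟨T, hTs, hTspan, hTli⟩ := exists_linearIndependent F (Eig {g | g ∈ L})
  rw [hspan] at hTspan
  let b₀ : Module.Basis T F V6 := Module.Basis.mk hTli (by rw [Subtype.range_coe, hTspan])
  have : Fintype T := FiniteDimensional.fintypeBasisIndex b₀
  have hT6 : Fintype.card T = 6 := by rw [← Module.finrank_eq_card_basis b₀, Module.finrank_fin_fun]
  let b : Module.Basis (Fin 6) F V6 := b₀.reindex (Fintype.equivFinOfCardEq hT6)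
  have hb : ∀ i, b i ∈ Eig {g | g ∈ L} := fun i => by
    simp only [b, Module.Basis.reindex_apply, b₀, Module.Basis.mk_apply]
    exact hTs (Subtype.coe_prop _)
  have hev : ∀ (g : S) (i : Fin 6), ∃ l : Fˣ, act (g : GU6) (b i) = (l : F) • b i := by
    intro g i
    obtain ⟨l, hl⟩ := hb i g ((hL _).2 g.2)
    have hl0 : l ≠ 0 := by
      intro h0
      rw [h0, zero_smul] at hl
      exact b.ne_zero i (act_inj _ (hl.trans (act_zero (g : GU6)).symm))
    exact ⟨Units.mk0 l hl0, hl⟩
  choose χ hχ using hev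
  have hdiag : ∀ g : S, ∏ i, χ g i = 1 := by
    intro g
    have h1 : LinearMap.toMatrix b b (Matrix.toLin' (g : GU6).1.val) =
        Matrix.diagonal (fun i => (χ g i : F)) := by
      ext i j
      rw [LinearMap.toMatrix_apply, Matrix.toLin'_apply]
      show b.repr (act (g : GU6) (b j)) i = _
      rw [hχ, map_smul, Module.Basis.repr_self, Finsupp.smul_apply, Finsupp.single_apply, Matrix.diagonal_apply]
      by_cases hij : i = j
      · subst hij; simp
      · simp [hij, Ne.symm hij]
    have h2 : detU (g : GU6) = ((∏ i, χ g i : Fˣ) : F) := by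
      show (g : GU6).1.val.det = _
      rw [← LinearMap.det_toLin', ← LinearMap.det_toMatrix b, h1, Matrix.det_diagonal, Units.coe_prod]
    exact Units.ext (by rw [← h2, hdet _ g.2, Units.val_one])
  have hext : ∀ g h : GU6, (∀ i, act g (b i) = act h (b i)) → g = h := by
    intro g h H
    refine act_ext fun k => ?_
    rw [← b.sum_repr (Pi.single k 1), act_sum, act_sum]
    exact Finset.sum_congr rfl fun i _ => by rw [act_smul, act_smul, H]
  have hinj : Function.Injective (fun g : S => (⟨χ g, hdiag g⟩ : (prodHom (F := F)).ker)) := by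
    intro g h e
    have e' : χ g = χ h := congrArg Subtype.val e
    exact Subtype.ext (hext _ _ fun i => by rw [hχ, hχ, e'])
  have hker : Nat.card (prodHom (F := F)).ker = 243 := by
    rw [← card_Mgrp D, Mgrp, Subgroup.card_map_of_injective (dd_injective D)]
  have hbij := (Nat.bijective_iff_injective_and_card _).2 ⟨hinj, hcard.trans hker.symm⟩
  have hsur : ∀ c : Fin 6 → Fˣ, ∏ i, c i = 1 → ∃ g : S, χ g = c := fun c hc => by
    obtain ⟨g, hg⟩ := hbij.2 ⟨c, hc⟩
    exact ⟨g, congrArg Subtype.val hg⟩
  have horth : ∀ i j, i ≠ j → 𝕙 (b i) (b j) = 0 := by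
    intro i j hij
    obtain ⟨x, hxi, hxj⟩ := (by decide : ∀ a b : Fin 6, ∃ x, x ≠ a ∧ x ≠ b) i j
    obtain ⟨g, hg⟩ := hsur _ ((dd_mem_Mgrp D).1 (dab_mem D D.w i x))
    have h := herm_act (g : GU6) (b i) (b j)
    rw [hχ, hχ, hermForm_smul_left, hermForm_smul_right, hg, ← mul_assoc] at h
    simp only [dab, Pi.mul_apply, Pi.mulSingle_eq_same, Pi.mulSingle_eq_of_ne hxi.symm,
      Pi.mulSingle_eq_of_ne hxj.symm, Pi.mulSingle_eq_of_ne hij.symm, mul_one, Units.val_one, one_pow] at h
    by_contra h0
    exact D.omega_ne_one (mul_right_cancel₀ h0 (h.trans (one_mul _).symm))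
  have hnorm : ∀ i, 𝕙 (b i) (b i) = 1 := by
    intro i
    have h0 : 𝕙 (b i) (b i) ≠ 0 := by
      intro h0
      obtain ⟨y, hy⟩ := exists_pairing_ne (n := 6) D.card' (b.ne_zero i)
      rw [← b.sum_repr y, herm_sum_right D, Finset.sum_eq_zero fun j _ => ?_] at hy
      · exact zero_ne_one hy
      rw [hermForm_smul_right]
      by_cases hji : i = j
      · subst hji; rw [h0, mul_zero]
      · rw [horth i j hji, mul_zero]
    have hsq := hermForm_self_conj D.card' 6 (b i)
    rw [pow_two] at hsq
    exact mul_right_cancel₀ h0 (hsq.trans (one_mul _).symm)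
  have hexp : ∀ u : V6, (∑ i, u i • b i) = Fintype.linearCombination F (fun i => b i) u := fun u => rfl
  obtain ⟨P, hP⟩ := exists_GU_of_preserving D.card' (Fintype.linearCombination F (fun i => b i))
    (fun u v => by
      rw [← hexp, ← hexp, herm_sum_left]
      refine Finset.sum_congr rfl fun i _ => ?_
      rw [herm_sum_right D, Finset.sum_eq_single i]
      · rw [hermForm_smul_left, hermForm_smul_right, hnorm, mul_one]
      · intro j _ hji
        rw [hermForm_smul_left, hermForm_smul_right, horth i j (Ne.symm hji), mul_zero, mul_zero]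
      · exact fun h => absurd (Finset.mem_univ i) h)
  have hPe : ∀ i, act P (Pi.single i 1) = b i := fun i => by
    rw [act, hP, ← hexp, Finset.sum_eq_single i]
    · simp
    · intro j _ hji; simp [Pi.single_eq_of_ne hji]
    · exact fun h => absurd (Finset.mem_univ i) h
  have hrel : ∀ g : S, (g : GU6) * P = P * dd D (χ g) := fun g => act_ext fun i => by
    rw [act_mul, act_mul, act_dd_single, act_smul, hPe, hχ]
  refine ⟨P, le_antisymm (fun g hg => ?_) ?_⟩
  · refine ⟨dd D (χ ⟨g, hg⟩), (dd_mem_Mgrp D).2 (hdiag _), ?_⟩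
    show P * dd D (χ ⟨g, hg⟩) * P⁻¹ = g
    rw [← hrel ⟨g, hg⟩, mul_inv_cancel_right]
  · rintro _ ⟨m, hm, rfl⟩
    obtain ⟨c, hc, rfl⟩ := (mem_Mgrp D).1 hm
    obtain ⟨g, rfl⟩ := hsur c hc
    show P * dd D (χ g) * P⁻¹ ∈ S
    rw [← hrel g, mul_inv_cancel_right]
    exact g.2

end WithD

end CfsgLib.U43Six
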