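import Cfsg.Agent.Lib.ClassicalGroups.UnitarySimple
import Cfsg.Agent.Lib.UFourThreeSix.Frame

/-!
The subgroup `X₀ ≅ 3.PSU_4(3)` of `SU_6(2)` through the common action on 112 lines and 112 frames.
-/

set_option autoImplicit false
set_option linter.unusedSectionVars false

namespace CfsgLib.U43Six

open Matrix CfsgLib.ClassicalGroups

variable {F : Type*} [Field F] [Fintype F] {K : Type*} [Field K] [Fintype K]

/-- The group of determinant one in dimension four over nine elements. -/
abbrev S4 (K : Type*) [Field K] : Type _ := ↥(Cfsg.SU 4 K 3)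

/-! ### The four generators over four elements -/

/-- A three-cycle. -/
def perm₁ : Equiv.Perm (Fin 6) :=
  ⟨![1, 2, 0, 3, 4, 5], ![2, 0, 1, 3, 4, 5], by decide, by decide⟩

/-- A five-cycle. -/
def perm₂ : Equiv.Perm (Fin 6) :=
  ⟨![0, 2, 3, 4, 5, 1], ![0, 5, 1, 2, 3, 4], by decide, by decide⟩

/-- The diagonal entries of the first generator. -/
noncomputable def tauU (D : Four F) : Fin 6 → Fˣ := fun i => if (i : ℕ) < 3 then D.w else 1

/-- The generators. -/
noncomputable def bEl (D : Four F) : Fin 4 → G6 F :=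
  ![dd D (tauU D), pm D perm₁, pm D perm₂, tt D * dd D (tauU D) * tt D]

/-- The subgroup `X₀`. -/
noncomputable def X0 (D : Four F) : Subgroup (G6 F) := Subgroup.closure (Set.range (bEl D))

section Four

variable (D : Four F)

theorem detU_bEl (g : Fin 4) : detU (bEl D g) = 1 := by
  have htau : detU (dd D (tauU D)) = 1 := by
    rw [detU_dd]
    simp only [tauU, Fin.prod_univ_six, Fin.val_zero, Fin.val_one, Fin.val_two,
      show ((3 : Fin 6) : ℕ) = 3 from rfl, show ((4 : Fin 6) : ℕ) = 4 from rfl,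
      show ((5 : Fin 6) : ℕ) = 5 from rfl]
    norm_num
    rw [← D.omega_cube, Four.w, Units.val_mk0]; ring
  fin_cases g
  · exact htau
  · exact detU_pm D _
  · exact detU_pm D _
  · show detU (tt D * dd D (tauU D) * tt D) = 1
    rw [map_mul, map_mul, htau, detU_tt, one_mul, one_mul]

theorem detU_X0 {g : G6 F} (hg : g ∈ X0 D) : detU g = 1 := by
  induction hg using Subgroup.closure_induction with
  | mem x hx => obtain ⟨i, rfl⟩ := hx; exact detU_bEl D i
  | one => exact map_one _
  | mul x y _ _ hx hy => rw [map_mul, hx, hy, one_mul]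
  | inv x _ hx =>
    have := map_mul detU x⁻¹ x
    rw [inv_mul_cancel, map_one, hx, mul_one] at this
    exact this.symm

/-- The vector with codes `u`. -/
def fvec (ω : F) (u : ℕ → ℕ) : Fin 6 → F := fun i => e4 ω (u i)

theorem sum_fvec {u : ℕ → ℕ} (hu : ∀ i, u i < 4) : (∑ k, fvec D.ω u k) = e4 D.ω (sum6 u) := by
  rw [sum6, e4_xor_nat D (xor_lt (xor_lt (hu 0) (hu 1)) (xor_lt (hu 2) (hu 3))) (xor_lt (hu 4) (hu 5)),
    e4_xor_nat D (xor_lt (hu 0) (hu 1)) (xor_lt (hu 2) (hu 3)), e4_xor_nat D (hu 0) (hu 1),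
    e4_xor_nat D (hu 2) (hu 3), e4_xor_nat D (hu 4) (hu 5), Fin.sum_univ_six]
  simp only [fvec, Fin.val_zero, Fin.val_one, Fin.val_two,
    show ((3 : Fin 6) : ℕ) = 3 from rfl, show ((4 : Fin 6) : ℕ) = 4 from rfl,
    show ((5 : Fin 6) : ℕ) = 5 from rfl]
  ring

theorem tApply_lt {u : ℕ → ℕ} (hu : ∀ i, u i < 4) (i : ℕ) : tApply u i < 4 :=
  xor_lt (hu i) (xor_lt (xor_lt (xor_lt (hu 0) (hu 1)) (xor_lt (hu 2) (hu 3))) (xor_lt (hu 4) (hu 5)))

theorem tauApply_lt {u : ℕ → ℕ} (hu : ∀ i, u i < 4) (i : ℕ) : tauApply u i < 4 :=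
  m4_lt_nat (by unfold tauC; split_ifs <;> omega) (hu i)

theorem act_tt_fvec {u : ℕ → ℕ} (hu : ∀ i, u i < 4) :
    act (tt D) (fvec D.ω u) = fvec D.ω (tApply u) := funext fun i => by
  rw [act_tt, sum_fvec D hu]
  exact (e4_xor_nat D (hu _) (xor_lt (xor_lt (xor_lt (hu 0) (hu 1)) (xor_lt (hu 2) (hu 3)))
    (xor_lt (hu 4) (hu 5)))).symm

theorem act_tau_fvec {u : ℕ → ℕ} (hu : ∀ i, u i < 4) :
    act (dd D (tauU D)) (fvec D.ω u) = fvec D.ω (tauApply u) := funext fun i => by
  rw [act_dd]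
  simp only [fvec, tauApply]
  rw [e4_mul_nat D (by unfold tauC; split_ifs <;> omega) (hu _)]
  unfold tauC tauU
  split_ifs <;> simp [e4, Four.w]

theorem act_bEl (g : Fin 4) {u : ℕ → ℕ} (hu : ∀ i, u i < 4) :
    act (bEl D g) (fvec D.ω u) = fvec D.ω (bApply g u) := by
  fin_cases g
  · exact act_tau_fvec D hu
  · exact funext fun i => by
      show act (pm D perm₁) (fvec D.ω u) i = _
      rw [act_pm]
      fin_cases i <;> rfl
  · exact funext fun i => by
      show act (pm D perm₂) (fvec D.ω u) i = _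
      rw [act_pm]
      fin_cases i <;> rfl
  · show act (tt D * dd D (tauU D) * tt D) (fvec D.ω u) = _
    rw [act_mul, act_mul, act_tt_fvec D hu, act_tau_fvec D (tApply_lt hu),
      act_tt_fvec D (tauApply_lt (tApply_lt hu))]
    rfl

/-- Point `i` of frame `j`. -/
def pt (ω : F) (j i : ℕ) : Fin 6 → F := fvec ω (dg4 (fpt j i))

end Four

/-! ### The four generators over nine elements -/

section Nine

variable (E : Nine K)

theorem Nine.card' (E : Nine K) : Fintype.card K = 3 ^ 2 := by rw [E.card]; rfl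

/-- The vector with codes `u`. -/
def kvec (u : ℕ → ℕ) : Fin 4 → K := fun i => E.e (u i)

theorem hermForm_kvec (u v : ℕ → ℕ) : Cfsg.hermForm 4 K 3 (kvec E u) (kvec E v) = E.e (h9 u v) := by
  simp only [h9, E.e_add, E.e_mul, E.e_conj, Cfsg.hermForm, kvec, Fin.sum_univ_four, Fin.val_zero,
    Fin.val_one, Fin.val_two, show ((3 : Fin 4) : ℕ) = 3 from rfl]
  ring

theorem kvec_single (a : Fin 4) :
    (Pi.single a 1 : Fin 4 → K) = kvec E (fun x => if x == (a : ℕ) then 1 else 0) := funext fun i => by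
  simp only [kvec, Pi.single_apply, beq_iff_eq, Fin.val_inj]
  split_ifs
  · exact E.e_one.symm
  · exact E.e_zero.symm

/-- The matrix of generator `g`. -/
def aMat (g : Fin 4) : Matrix (Fin 4) (Fin 4) K := Matrix.of fun i k => E.e (aEnt g i k)

theorem aMat_kvec (g : Fin 4) (u : ℕ → ℕ) : aMat E g *ᵥ kvec E u = kvec E (aApply g u) := funext fun i => by
  simp only [kvec, aMat, aApply, Matrix.mulVec, dotProduct, Matrix.of_apply, Fin.sum_univ_four, E.e_add,
    E.e_mul, Fin.val_zero, Fin.val_one, Fin.val_two, show ((3 : Fin 4) : ℕ) = 3 from rfl]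
  ring

theorem okMat_get :
    (∀ g : Fin 4, ∀ a b : Fin 4, h9 (fun i => aEnt g i a) (fun i => aEnt g i b) =
      (if (a : ℕ) == (b : ℕ) then 1 else 0)) ∧
    (∀ g : Fin 4, ∀ a i : Fin 4,
      let e := fun x => if x == (a : ℕ) then 1 else 0
      let r := aApply g (aApply g (aApply g e))
      (if (g : ℕ) == 2 then aApply g (aApply g (aApply g (aApply g (aApply g e)))) i else r i) = e i) ∧
    (∀ a i : Fin 4,
      let v := (tTab.getD 0 (0, 0, 0, 0)).1
      let e := fun x => if x == (a : ℕ) then 1 else 0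
      aApply 0 e i = a9 (e i) (m9 (m9 cZero (h9 e (dg9 v))) (dg9 v i))) ∧
    m9 cZero (m9 cZero cZero) = m9 2 cZero ∧ cZero ≠ 0 ∧
    h9 (dg9 (tTab.getD 0 (0, 0, 0, 0)).1) (dg9 (tTab.getD 0 (0, 0, 0, 0)).1) = 0 := by
  have h := okMat_all
  simp only [okMat, Bool.and_eq_true, List.all_eq_true, List.mem_range, beq_iff_eq, bne_iff_ne, ne_eq] at h
  obtain ⟨⟨⟨⟨⟨h1, h2⟩, h3⟩, h4⟩, h5⟩, h6⟩ := h
  exact ⟨fun g a b => by simpa only [beq_iff_eq] using h1 g g.2 a a.2 b b.2,
    fun g a i => by simpa only [beq_iff_eq] using h2 g g.2 a a.2 i i.2,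
    fun a i => by simpa only [beq_iff_eq] using h3 a a.2 i i.2, h4, h5, h6⟩

theorem exists_aEl (E : Nine K) (g : Fin 4) : ∃ s : S4 K, ∀ x, s.1.1 *ᵥ x = aMat E g *ᵥ x := by
  have hcol : ∀ a : Fin 4, aMat E g *ᵥ Pi.single a 1 = kvec E (fun i => aEnt g i a) := fun a => funext fun i => by
    simp [aMat, kvec, Matrix.mulVec_single_one, Matrix.col_apply]
  have hxx : ∀ x : Fin 4 → K, aMat E g *ᵥ x = ∑ a, x a • kvec E (fun i => aEnt g i a) := fun x => by
    funext i
    simp [Matrix.mulVec, dotProduct, aMat, kvec, Finset.sum_apply, mul_comm]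
  obtain ⟨G, hG⟩ := exists_GU_of_preserving (n := 4) E.card' (Matrix.toLin' (aMat E g)) (fun u v => by
    rw [Matrix.toLin'_apply, Matrix.toLin'_apply, hxx, hxx, Fin.sum_univ_four, Fin.sum_univ_four]
    simp only [hermForm_add_left, hermForm_add_right E.card', hermForm_smul_left, hermForm_smul_right,
      hermForm_kvec, okMat_get.1]
    simp [Cfsg.hermForm, Fin.sum_univ_four, E.e_zero, E.e_one]
    ring)
  have hpow : ∀ (n : ℕ) (a : Fin 4), (G ^ n).1.val *ᵥ Pi.single a 1 =
      kvec E ((aApply g)^[n] fun x => if x == (a : ℕ) then 1 else 0) := by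
    intro n a
    induction n with
    | zero => rw [pow_zero, GU_one_mulVec]; exact kvec_single E a
    | succ n ih =>
      rw [pow_succ', GU_mul_mulVec, ih, hG, Matrix.toLin'_apply, Function.iterate_succ', Function.comp_apply,
        aMat_kvec]
  obtain ⟨r, hr, hr1⟩ : ∃ r : ℕ, (r = 3 ∨ r = 5) ∧ G ^ r = 1 := by
    have one' : ∀ a : Fin 4, (1 : ↥(Cfsg.GU 4 K 3)).1.val *ᵥ (Pi.single a 1 : Fin 4 → K) =
        kvec E (fun x => if x == (a : ℕ) then 1 else 0) := fun a => by
      rw [← kvec_single E a]; exact GU_one_mulVec _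
    by_cases hg : ((g : ℕ) == 2) = true
    · refine ⟨5, Or.inr rfl, Subtype.ext (Units.ext (Matrix.ext_of_mulVec_single fun a => ?_))⟩
      rw [hpow, one' a]
      funext i
      have h := okMat_get.2.1 g a i
      simp only [hg, if_true] at h
      exact congrArg E.e h
    · refine ⟨3, Or.inl rfl, Subtype.ext (Units.ext (Matrix.ext_of_mulVec_single fun a => ?_))⟩
      rw [hpow, one' a]
      funext i
      have h := okMat_get.2.1 g a i
      simp only [hg, Bool.false_eq_true, if_false] at h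
      exact congrArg E.e h
  have hdet : G.1.val.det = 1 := by
    have h4 := congrArg Units.val (GU_det_pow E.card' G)
    have hp : G.1.val.det ^ r = 1 := by
      have : (G.1 ^ r) = 1 := congrArg Subtype.val hr1
      have := congrArg (fun x : GL (Fin 4) K => x.val.det) this
      simpa using this
    simp only [Units.val_pow_eq_pow_val, GeneralLinearGroup.val_det_apply, Units.val_one] at h4
    rcases hr with rfl | rfl
    · linear_combination h4 - G.1.val.det * hp
    · linear_combination hp - G.1.val.det * h4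
  obtain ⟨s, hs⟩ := exists_SU_of_GU G hdet
  exact ⟨s, fun x => by rw [hs, hG, Matrix.toLin'_apply]⟩

/-- The generators. -/
noncomputable def aEl (E : Nine K) (g : Fin 4) : S4 K := (exists_aEl E g).choose

theorem act_aEl (g : Fin 4) (u : ℕ → ℕ) : (aEl E g).1.1 *ᵥ kvec E u = kvec E (aApply g u) := by
  rw [aEl, (exists_aEl E g).choose_spec, aMat_kvec]

/-- Spanning vectors of line `j`. -/
def lnU (j : ℕ) : Fin 4 → K := kvec E (dg9 (lu j))

/-- Spanning vectors of line `j`. -/
def lnW (j : ℕ) : Fin 4 → K := kvec E (dg9 (lw j))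

/-- Point `k` of the orbit. -/
def tpt (k : ℕ) : Fin 4 → K := kvec E (dg9 (tTab.getD k (0, 0, 0, 0)).1)

/-- The subgroup generated by the generators. -/
noncomputable def A0grp (E : Nine K) : Subgroup (S4 K) := Subgroup.closure (Set.range (aEl E))

/-- All transvections with centre `v` lie in the generated subgroup. -/
def GoodPt (v : Fin 4 → K) : Prop :=
  ∀ (s : S4 K) (c : K), c ^ 3 = -c → s.1.1 = Cfsg.unitaryTransvection 4 3 v c → s ∈ A0grp E

theorem smul_transvection (v : Fin 4 → K) (a c : K) :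
    Cfsg.unitaryTransvection 4 3 (a • v) c = Cfsg.unitaryTransvection 4 3 v (c * a * a ^ 3) :=
  Matrix.ext_of_mulVec_single fun i => by
    rw [unitaryTransvection_mulVec, unitaryTransvection_mulVec, hermForm_smul_right, smul_smul]
    congr 2
    ring

theorem good_zero : GoodPt E (tpt E 0) := by
  obtain ⟨-, -, h3, h4, h5, h6⟩ := okMat_get
  have hv : Cfsg.hermForm 4 K 3 (tpt E 0) (tpt E 0) = 0 := by rw [tpt, hermForm_kvec, h6, E.e_zero]
  have hA : (aEl E 0).1.1 = Cfsg.unitaryTransvection 4 3 (tpt E 0) (E.e cZero) :=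
    Matrix.ext_of_mulVec_single fun a => by
      rw [unitaryTransvection_mulVec, kvec_single E a, act_aEl, tpt, hermForm_kvec]
      funext i
      simp only [kvec, Pi.add_apply, Pi.smul_apply, smul_eq_mul, ← E.e_mul, ← E.e_add]
      exact congrArg E.e (h3 a i)
  have hc0 : E.e cZero ≠ 0 := E.e_ne_zero (by decide) h5
  have hcc : E.e cZero ^ 3 = -E.e cZero := by
    rw [show E.e cZero ^ 3 = E.e (m9 cZero (m9 cZero cZero)) by rw [E.e_mul, E.e_mul]; ring, h4, E.e_mul,
      E.e_two, neg_one_mul]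
  intro s c hc hs
  set k : K := c / E.e cZero with hk
  have hkk : k ^ 3 = k := by
    rw [hk, div_pow, hc, hcc, neg_div_neg_eq]
  have hck : c = k * E.e cZero := by rw [hk, div_mul_cancel₀ _ hc0]
  have hA' : aEl E 0 ∈ A0grp E := Subgroup.subset_closure ⟨0, rfl⟩
  have key : ∀ n : ℕ, (aEl E 0 ^ n).1.1 = Cfsg.unitaryTransvection 4 3 (tpt E 0) ((n : K) * E.e cZero) := by
    intro n
    induction n with
    | zero =>
      refine Matrix.ext_of_mulVec_single fun i => ?_
      rw [pow_zero, unitaryTransvection_mulVec, SU_one_mulVec]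
      simp
    | succ n ih =>
      refine Matrix.ext_of_mulVec_single fun i => ?_
      rw [pow_succ', SU_mul_mulVec, ih, hA, unitaryTransvection_mulVec, unitaryTransvection_mulVec,
        unitaryTransvection_mulVec, hermForm_add_left, hermForm_smul_left, hv, Nat.cast_succ]
      rw [mul_zero, add_zero, add_assoc, ← add_smul]
      congr 2
      ring
  have h3 := E.three
  have : k = 0 ∨ k = 1 ∨ k = 2 := by
    have hz : k * (k - 1) * (k + 1) = 0 := by linear_combination hkk
    rcases mul_eq_zero.1 hz with hz | hz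
    · rcases mul_eq_zero.1 hz with hz | hz
      · exact Or.inl hz
      · exact Or.inr (Or.inl (sub_eq_zero.1 hz))
    · exact Or.inr (Or.inr (by linear_combination hz - h3))
  obtain ⟨n, hn⟩ : ∃ n : ℕ, k = (n : K) := by
    rcases this with h | h | h
    · exact ⟨0, by simpa using h⟩
    · exact ⟨1, by simpa using h⟩
    · exact ⟨2, by simpa using h⟩
  have hsA : s = aEl E 0 ^ n := SU_ext fun x => by rw [key, ← hn, ← hck, hs]
  rw [hsA]
  exact pow_mem hA' n

theorem good_act {v : Fin 4 → K} (g : Fin 4) (hv : GoodPt E v) : GoodPt E ((aEl E g).1.1 *ᵥ v) := by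
  intro s c hc hs
  have hg : aEl E g ∈ A0grp E := Subgroup.subset_closure ⟨g, rfl⟩
  have h : ((aEl E g)⁻¹ * s * aEl E g).1.1 = Cfsg.unitaryTransvection 4 3 v c :=
    Matrix.ext_of_mulVec_single fun i => by
      rw [SU_mul_mulVec, SU_mul_mulVec, hs, unitaryTransvection_mulVec, unitaryTransvection_mulVec,
        Matrix.mulVec_add, Matrix.mulVec_smul, SU_inv_mulVec_mulVec, SU_inv_mulVec_mulVec,
        mem_SU_iff.1 (aEl E g).2]
  have := mul_mem (mul_mem hg (hv _ c hc h)) (inv_mem hg)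
  have e : aEl E g * ((aEl E g)⁻¹ * s * aEl E g) * (aEl E g)⁻¹ = s := by group
  rwa [e] at this

theorem good_smul {v : Fin 4 → K} {a : K} (ha : a ≠ 0) (hv : GoodPt E v) : GoodPt E (a • v) := by
  intro s c hc hs
  refine hv s (c * a * a ^ 3) ?_ (hs.trans (smul_transvection v a c))
  have h8 : a ^ 8 = 1 := by
    have := FiniteField.pow_card_sub_one_eq_one a ha
    rwa [E.card] at this
  linear_combination (a ^ 3 * a ^ 9) * hc - c * a ^ 4 * h8

theorem good_tpt : ∀ k, k < 280 → GoodPt E (tpt E k) := by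
  intro k
  induction k using Nat.strong_induction_on with
  | _ k ih =>
    intro hk
    have h := List.all_eq_true.1 okTree_all k (List.mem_range.2 hk)
    obtain ⟨p, par, g, s, hd⟩ : ∃ p par g s, tTab.getD k (0, 0, 0, 0) = (p, par, g, s) := ⟨_, _, _, _, rfl⟩
    simp only [okTree, hd, Bool.or_eq_true, beq_iff_eq, Bool.and_eq_true, decide_eq_true_eq,
      List.all_eq_true, List.mem_range] at h
    rcases h with h | ⟨⟨⟨⟨hpar, hg⟩, hs0⟩, hs9⟩, hv⟩
    · subst h; exact good_zero E
    have hk' : (aEl E ⟨g, hg⟩).1.1 *ᵥ tpt E par = E.e s • tpt E k := by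
      rw [tpt, act_aEl]
      funext i
      simp only [kvec, tpt, hd, Pi.smul_apply, smul_eq_mul, ← E.e_mul]
      exact congrArg E.e (hv i i.2)
    have hs : E.e s ≠ 0 := E.e_ne_zero hs9 (by omega)
    have := good_smul E (inv_ne_zero hs) (good_act E ⟨g, hg⟩ (ih par hpar (hpar.trans hk)))
    rwa [hk', smul_smul, inv_mul_cancel₀ hs, one_smul] at this

theorem exists_tpt {v : Fin 4 → K} (hv0 : v ≠ 0) (hv : Cfsg.hermForm 4 K 3 v v = 0) :
    ∃ k < 280, ∃ a : K, a ≠ 0 ∧ v = a • tpt E k := by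
  classical
  obtain ⟨f, hf, hmin⟩ : ∃ f : Fin 4, v f ≠ 0 ∧ ∀ i < f, v i = 0 := by
    have hne : (Finset.univ.filter fun i : Fin 4 => v i ≠ 0).Nonempty := by
      obtain ⟨i, hi⟩ := Function.ne_iff.1 hv0
      exact ⟨i, by simpa using hi⟩
    refine ⟨Finset.min' _ hne, by simpa using Finset.min'_mem _ hne, fun i hi => ?_⟩
    by_contra h
    exact absurd (Finset.min'_le _ i (by simpa using h)) (not_le.2 hi)
  choose x hx hxv using fun i : Fin 4 => E.e_surj ((v f)⁻¹ * v i)
  have hxf : x f = 1 := E.e_inj (hx f) (by norm_num) (by rw [← hxv, inv_mul_cancel₀ hf, E.e_one])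
  have hxl : ∀ i < f, x i = 0 := fun i hi =>
    E.e_inj (hx i) (by norm_num) (by rw [← hxv, hmin i hi, mul_zero, E.e_zero])
  set u : ℕ → ℕ := fun i => if h : i < 4 then x ⟨i, h⟩ else 0
  have hu : kvec E u = (v f)⁻¹ • v := funext fun i => by
    simp only [kvec, u, dif_pos i.2, Pi.smul_apply, smul_eq_mul, Fin.eta]
    exact (hxv i).symm
  obtain ⟨a, b, c, ha, hb, hc, hcan⟩ : ∃ a b c, a < (if (f : ℕ) ≤ 2 then 9 else 1) ∧
      b < (if (f : ℕ) ≤ 1 then 9 else 1) ∧ c < (if (f : ℕ) = 0 then 9 else 1) ∧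
      ∀ i : Fin 4, canon f a b c i = x i := by
    have := hx 0; have := hx 1; have := hx 2; have := hx 3
    fin_cases f
    · refine ⟨x 1, x 2, x 3, by simpa, by simpa, by simpa, fun i => ?_⟩
      fin_cases i <;> first | rfl | exact hxf.symm | exact (hxl _ (by decide)).symm
    · refine ⟨x 2, x 3, 0, by simpa, by simpa, by simp, fun i => ?_⟩
      fin_cases i <;> first | rfl | exact hxf.symm | exact (hxl _ (by decide)).symm
    · refine ⟨x 3, 0, 0, by simpa, by simp, by simp, fun i => ?_⟩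
      fin_cases i <;> first | rfl | exact hxf.symm | exact (hxl _ (by decide)).symm
    · refine ⟨0, 0, 0, by simp, by simp, by simp, fun i => ?_⟩
      fin_cases i <;> first | rfl | exact hxf.symm | exact (hxl _ (by decide)).symm
  have hiso : h9 (canon f a b c) (canon f a b c) = 0 := by
    have h1 : kvec E (canon f a b c) = (v f)⁻¹ • v := by
      rw [← hu]
      exact funext fun i => by simp only [kvec, hcan, u, dif_pos i.2, Fin.eta]
    refine E.e_inj ?_ (by norm_num) ?_
    · unfold h9 a9; omega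
    rw [← hermForm_kvec, h1, hermForm_smul_left, hermForm_smul_right, hv, E.e_zero]
    simp
  have h := okCover_all
  simp only [List.all_eq_true, List.mem_range] at h
  have h := h f f.2 a ha b hb c hc
  simp only [okCover, hiso, bne_self_eq_false, Bool.false_or, List.any_eq_true, List.all_eq_true,
    List.mem_range, beq_iff_eq] at h
  obtain ⟨t, ht, htv⟩ := h
  obtain ⟨k, hk, rfl⟩ := List.getElem_of_mem ht
  refine ⟨k, hk.trans_eq (by decide +kernel : tTab.length = 280), v f, hf, ?_⟩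
  have hk' : tpt E k = (v f)⁻¹ • v := by
    rw [← hu]
    funext i
    simp only [kvec, tpt, List.getD_eq_getElem _ _ hk, htv i i.2, hcan, u, dif_pos i.2, Fin.eta]
  rw [hk', smul_smul, mul_inv_cancel₀ hf, one_smul]

theorem A0grp_top : A0grp E = ⊤ := by
  rw [eq_top_iff, ← closure_suTvSet (n := 4) E.card' (by norm_num) (by norm_num), Subgroup.closure_le]
  rintro s ⟨v, c, hv, hs⟩
  by_cases hv0 : v = 0
  · have : s = 1 := SU_ext fun x => by
      rw [hs, unitaryTransvection_mulVec, hv0, smul_zero, add_zero, SU_one_mulVec]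
    rw [this]; exact one_mem _
  have hc : c ^ 3 = -c := by
    obtain ⟨x, hx⟩ := exists_pairing_ne (n := 4) E.card' hv0
    have hxv : Cfsg.hermForm 4 K 3 x v = 1 := by rw [hermForm_symm E.card' 4 v x, hx, one_pow]
    have h := mem_SU_iff.1 s.2 x x
    rw [hs, unitaryTransvection_mulVec, hermForm_add_left, hermForm_add_right E.card',
      hermForm_add_right E.card', hermForm_smul_left, hermForm_smul_left, hermForm_smul_right,
      hermForm_smul_right, hv, hxv, hx] at h
    linear_combination h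
  obtain ⟨k, hk, a, ha, rfl⟩ := exists_tpt E hv0 hv
  exact good_smul E ha (good_tpt E k hk) s c hc hs

end Nine

/-! ### The common action -/

section Pair

variable (D : Four F) (E : Nine K)

/-- A pair of elements acting alike on lines and frames. -/
def Rel (p : S4 K × G6 F) : Prop :=
  ∀ j < 112, ∃ k < 112,
    (∃ a b c d : K, p.1.1.1 *ᵥ lnU E j = a • lnU E k + b • lnW E k ∧
      p.1.1.1 *ᵥ lnW E j = c • lnU E k + d • lnW E k) ∧
    ∀ i < 6, ∃ i' < 6, ∃ e : F, e ≠ 0 ∧ act p.2 (pt D.ω j i) = e • pt D.ω k i'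

theorem rel_one : Rel D E 1 := fun j hj => ⟨j, hj, ⟨1, 0, 0, 1, by
    rw [Prod.fst_one, SU_one_mulVec]; simp, by rw [Prod.fst_one, SU_one_mulVec]; simp⟩,
  fun i hi => ⟨i, hi, 1, one_ne_zero, by rw [Prod.snd_one, act_one, one_smul]⟩⟩

theorem rel_mul {p p' : S4 K × G6 F} (hp : Rel D E p) (hp' : Rel D E p') : Rel D E (p * p') := by
  intro j hj
  obtain ⟨k, hk, ⟨a, b, c, d, h1, h2⟩, hf'⟩ := hp' j hj
  obtain ⟨l, hl, ⟨a', b', c', d', g1, g2⟩, hf⟩ := hp k hk
  refine ⟨l, hl, ⟨a * a' + b * c', a * b' + b * d', c * a' + d * c', c * b' + d * d', ?_, ?_⟩, fun i hi => ?_⟩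
  · rw [Prod.fst_mul, SU_mul_mulVec, h1, Matrix.mulVec_add, Matrix.mulVec_smul, Matrix.mulVec_smul, g1, g2]
    module
  · rw [Prod.fst_mul, SU_mul_mulVec, h2, Matrix.mulVec_add, Matrix.mulVec_smul, Matrix.mulVec_smul, g1, g2]
    module
  · obtain ⟨i', hi', e, he, hp1⟩ := hf' i hi
    obtain ⟨i'', hi'', e', he', hp2⟩ := hf i' hi'
    exact ⟨i'', hi'', e * e', mul_ne_zero he he',
      by rw [Prod.snd_mul, act_mul, hp1, act_smul, hp2, smul_smul]⟩

theorem rel_gen (g : Fin 4) : Rel D E (aEl E g, bEl D g) := by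
  intro j hj
  have h := okAct_all
  simp only [List.all_eq_true, List.mem_range] at h
  have h := h g g.2 j hj
  simp only [okAct, Bool.and_eq_true, decide_eq_true_eq, List.all_eq_true, List.mem_range, beq_iff_eq] at h
  obtain ⟨⟨hk, hl⟩, hf⟩ := h
  refine ⟨img g j, hk, ⟨E.e (dg9 ((cTab.getD g []).getD j 0) 0), E.e (dg9 ((cTab.getD g []).getD j 0) 1),
    E.e (dg9 ((cTab.getD g []).getD j 0) 2), E.e (dg9 ((cTab.getD g []).getD j 0) 3), ?_, ?_⟩, fun i hi => ?_⟩
  · show (aEl E g).1.1 *ᵥ lnU E j = _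
    rw [lnU, act_aEl]
    funext x
    simp only [kvec, lnU, lnW, Pi.add_apply, Pi.smul_apply, smul_eq_mul, ← E.e_mul, ← E.e_add]
    exact congrArg E.e (hl x x.2).1
  · show (aEl E g).1.1 *ᵥ lnW E j = _
    rw [lnW, act_aEl]
    funext x
    simp only [kvec, lnU, lnW, Pi.add_apply, Pi.smul_apply, smul_eq_mul, ← E.e_mul, ← E.e_add]
    exact congrArg E.e (hl x x.2).2
  · set d := ((pTab.getD g []).getD j 0) / 18 ^ i % 18 with hd
    have hd18 : d < 18 := Nat.mod_lt _ (by norm_num)
    refine ⟨d % 6, Nat.mod_lt _ (by norm_num), e4 D.ω (d / 6 + 1), e4_ne_zero D (by omega) (by omega), ?_⟩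
    show act (bEl D g) (pt D.ω j i) = _
    rw [pt, act_bEl D g (dg4_lt _)]
    funext x
    simp only [fvec, pt, Pi.smul_apply, smul_eq_mul]
    rw [hf i hi x x.2, e4_mul_nat D (by omega) (dg4_lt _ _)]

/-- The group of pairs. -/
noncomputable def pairGrp : Subgroup (S4 K × G6 F) :=
  Subgroup.closure (Set.range fun g => (aEl E g, bEl D g))

theorem rel_of_mem {p : S4 K × G6 F} (hp : p ∈ pairGrp D E) : Rel D E p := by
  induction hp using Subgroup.closure_induction with
  | mem x hx => obtain ⟨i, rfl⟩ := hx; exact rel_gen D E i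
  | one => exact rel_one D E
  | mul x y _ _ hx hy => exact rel_mul D E hx hy
  | inv x _ hx =>
    have e : x⁻¹ = x ^ (orderOf x - 1) := by
      refine inv_eq_of_mul_eq_one_right ?_
      rw [← pow_succ', Nat.sub_add_cancel (orderOf_pos x), pow_orderOf_eq_one]
    rw [e]
    generalize orderOf x - 1 = n
    induction n with
    | zero => simpa using rel_one D E
    | succ n ih => rw [pow_succ]; exact rel_mul D E ih hx

theorem pairGrp_fst : (pairGrp D E).map (MonoidHom.fst _ _) = ⊤ := by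
  rw [pairGrp, MonoidHom.map_closure, ← Set.range_comp]
  exact A0grp_top E

theorem pairGrp_snd : (pairGrp D E).map (MonoidHom.snd _ _) = X0 D := by
  rw [pairGrp, MonoidHom.map_closure, ← Set.range_comp]
  rfl

/-- An element whose line component is central fixes every frame. -/
theorem fixes_frames {p : S4 K × G6 F} (hp : Rel D E p) (hc : p.1 ∈ Subgroup.center (S4 K)) :
    ∀ j < 112, ∀ i < 6, ∃ i' < 6, ∃ e : F, e ≠ 0 ∧ act p.2 (pt D.ω j i) = e • pt D.ω j i' := by
  obtain ⟨z, hz⟩ : ∃ z : K, ∀ x, p.1.1.1 *ᵥ x = z • x := by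
    refine ⟨p.1.1.1 0 0, fun x => funext fun i => ?_⟩
    have hs := center_SU_scalar E.card' ⟨p.1, hc⟩
    rw [Pi.smul_apply, smul_eq_mul, Matrix.mulVec, dotProduct, Finset.sum_eq_single i]
    · rw [(hs i 0).2]
    · intro b _ hb; rw [(hs i b).1 (Ne.symm hb), zero_mul]
    · exact fun h => absurd (Finset.mem_univ i) h
  have hz0 : z ≠ 0 := fun h => by
    have h1 := SU_inv_mulVec_mulVec p.1 (Pi.single (0 : Fin 4) 1 : Fin 4 → K)
    rw [hz, h, zero_smul, Matrix.mulVec_zero] at h1
    simpa using congrFun h1 0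
  intro j hj
  obtain ⟨k, hk, ⟨a, b, c, d, h1, h2⟩, hf⟩ := hp j hj
  have hjk : k = j := by
    by_contra hne
    have hl := okLine_all
    simp only [List.all_eq_true, List.mem_range] at hl
    have hjk' := hl j hj k hk
    have hkk := hl k hk k hk
    simp only [okLine, beq_self_eq_true, if_true, Bool.and_eq_true, beq_iff_eq] at hkk
    simp only [okLine, beq_iff_eq, if_neg (Ne.symm hne), Bool.not_eq_true',
      ← Bool.not_eq_true, Bool.and_eq_true] at hjk'
    apply hjk'
    have key : ∀ (u : ℕ → ℕ) (a b : K), z • kvec E u = a • lnU E k + b • lnW E k →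
        h9 u (dg9 (lu k)) = 0 ∧ h9 u (dg9 (lw k)) = 0 := by
      intro u a b he
      have hu : kvec E u = z⁻¹ • (a • lnU E k + b • lnW E k) := by
        rw [← he, smul_smul, inv_mul_cancel₀ hz0, one_smul]
      constructor
      all_goals
        refine E.e_inj (by unfold h9 a9; omega) (by norm_num) ?_
        rw [← hermForm_kvec, hu, hermForm_smul_left, hermForm_add_left, hermForm_smul_left,
          hermForm_smul_left, lnU, lnW, hermForm_kvec, hermForm_kvec]
        simp [hkk.1.1.1, hkk.1.1.2, hkk.1.2, hkk.2, E.e_zero]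
    rw [hz] at h1 h2
    exact ⟨⟨⟨(key _ _ _ h1).1, (key _ _ _ h1).2⟩, (key _ _ _ h2).1⟩, (key _ _ _ h2).2⟩
  subst hjk
  exact hf

end Pair

end CfsgLib.U43Six
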