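import Cfsg.Agent.Lib.H82.UFourThreeNorm
import Cfsg.Agent.Lib.UFourThreeSix.Model

/-!
`X₀ / Z(X₀) ≅ PSU_4(3)`, with `|Z(X₀)| = 3`.
-/

set_option autoImplicit false
set_option linter.unusedSectionVars false

namespace CfsgLib.U43Six

open Matrix CfsgLib.ClassicalGroups

variable {F : Type*} [Field F] [Fintype F] {K : Type*} [Field K] [Fintype K]

/-- One closure step for conjugates of a three-cycle. -/
def conjStep (L : List (Equiv.Perm (Fin 6))) : List (Equiv.Perm (Fin 6)) :=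
  (L ++ L.map (fun x => perm₁ * x * perm₁⁻¹) ++ L.map (fun x => perm₂ * x * perm₂⁻¹)).dedup

/-- All three-cycles. -/
def cycles : List (Equiv.Perm (Fin 6)) := conjStep^[8] [perm₁, perm₁⁻¹]

theorem mem_cycles : ∀ π : Equiv.Perm (Fin 6), π.support.card = 3 → π ∈ cycles := by decide +kernel

theorem two_transitive : ∀ a b : Fin 6, a ≠ b →
    ∃ π : Equiv.Perm (Fin 6), π 0 = a ∧ π 3 = b ∧ Equiv.Perm.sign π = 1 := by
  decide +kernel

theorem perm_fix_twists : ∀ π : Equiv.Perm (Fin 6),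
    (∀ n : Fin 4, ∀ k l : Fin 6,
      (dExp n k + dExp n (π l : ℕ)) % 3 = (dExp n l + dExp n (π k : ℕ)) % 3) → π = 1 := by
  decide +kernel

theorem closure_perms : Subgroup.closure ({perm₁, perm₂} : Set (Equiv.Perm (Fin 6))) =
    alternatingGroup (Fin 6) := by
  have h1 : perm₁ ∈ Subgroup.closure ({perm₁, perm₂} : Set (Equiv.Perm (Fin 6))) :=
    Subgroup.subset_closure (by simp)
  have h2 : perm₂ ∈ Subgroup.closure ({perm₁, perm₂} : Set (Equiv.Perm (Fin 6))) :=
    Subgroup.subset_closure (by simp)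
  refine le_antisymm ((Subgroup.closure_le _).2 ?_) ?_
  · rintro x (rfl | rfl) <;> exact Equiv.Perm.mem_alternatingGroup.2 (by decide)
  rw [← Equiv.Perm.closure_three_cycles_eq_alternating, Subgroup.closure_le]
  intro π hπ
  have hmem := mem_cycles π ((card_support_eq_three_iff.2 hπ))
  have key : ∀ n, ∀ x ∈ conjStep^[n] [perm₁, perm₁⁻¹],
      x ∈ Subgroup.closure ({perm₁, perm₂} : Set (Equiv.Perm (Fin 6))) := by
    intro n
    induction n with
    | zero =>
      intro x hx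
      simp only [Function.iterate_zero, id_eq, List.mem_cons, List.not_mem_nil, or_false] at hx
      rcases hx with rfl | rfl
      · exact h1
      · exact inv_mem h1
    | succ n ih =>
      intro x hx
      rw [Function.iterate_succ', Function.comp_apply, conjStep, List.mem_dedup, List.mem_append,
        List.mem_append, List.mem_map, List.mem_map] at hx
      rcases hx with (hx | ⟨y, hy, rfl⟩) | ⟨y, hy, rfl⟩
      · exact ih x hx
      · exact mul_mem (mul_mem h1 (ih y hy)) (inv_mem h1)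
      · exact mul_mem (mul_mem h2 (ih y hy)) (inv_mem h2)
  exact key 8 π hmem

section Four

variable (D : Four F)

theorem orderOf_w : orderOf D.w = 3 := by
  have := Fact.mk Nat.prime_three
  exact orderOf_eq_prime (D.unit_cube _) D.w_ne

theorem exists_pow_w (u : Fˣ) : ∃ n : ℕ, u = D.w ^ n := by
  have h : Subgroup.zpowers D.w = ⊤ := Subgroup.eq_top_of_card_eq _ (by
    rw [Nat.card_zpowers, orderOf_w, D.card_units])
  obtain ⟨n, hn⟩ := (isOfFinOrder_of_finite D.w).mem_powers_iff_mem_zpowers.2 (h ▸ Subgroup.mem_top u)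
  exact ⟨n, hn.symm⟩

/-- The subgroup generated by the first three generators. -/
noncomputable def H0 : Subgroup (G6 F) :=
  Subgroup.closure {dd D (tauU D), pm D perm₁, pm D perm₂}

theorem pm_mem_H0 {π : Equiv.Perm (Fin 6)} (h : Equiv.Perm.sign π = 1) : pm D π ∈ H0 D := by
  have : π ∈ Subgroup.closure ({perm₁, perm₂} : Set (Equiv.Perm (Fin 6))) := by
    rw [closure_perms]; exact Equiv.Perm.mem_alternatingGroup.2 h
  have h2 : Subgroup.closure ({perm₁, perm₂} : Set (Equiv.Perm (Fin 6))) ≤ (H0 D).comap (pm D) := by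
    rw [Subgroup.closure_le]
    rintro x (rfl | rfl)
    · exact Subgroup.subset_closure (by simp)
    · exact Subgroup.subset_closure (by simp)
  exact h2 this

theorem pm_conj (π : Equiv.Perm (Fin 6)) (c : Fin 6 → Fˣ) :
    pm D π * dd D c * (pm D π)⁻¹ = dd D (fun i => c (π.symm i)) := by
  rw [pm_mul_dd, mul_inv_cancel_right]

theorem dab_w_mem {a b : Fin 6} (hab : a ≠ b) : dd D (dab D.w a b) ∈ H0 D := by
  have hτ : dd D (tauU D) ∈ H0 D := Subgroup.subset_closure (by simp)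
  have h03 : dd D (dab D.w 0 3) ∈ H0 D := by
    let π : Equiv.Perm (Fin 6) := Equiv.swap 0 3 * Equiv.swap 1 2
    have hs : Equiv.Perm.sign π = 1 := by decide
    have h := mul_mem (mul_mem (pm_mem_H0 D hs) hτ) (inv_mem (pm_mem_H0 D hs))
    rw [pm_conj] at h
    have h' := mul_mem hτ (inv_mem h)
    rw [← map_inv, ← map_mul] at h'
    convert h' using 2
    funext i
    have e : (π.symm 0 = 3 ∧ π.symm 1 = 2 ∧ π.symm 2 = 1 ∧ π.symm 3 = 0 ∧ π.symm 4 = 4 ∧ π.symm 5 = 5) := by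
      decide
    fin_cases i <;> simp [dab, tauU, e.1, e.2.1, e.2.2.1, e.2.2.2.1, e.2.2.2.2.1, e.2.2.2.2.2]
  obtain ⟨π, h0, h3, hs⟩ := two_transitive a b hab
  have h := mul_mem (mul_mem (pm_mem_H0 D hs) h03) (inv_mem (pm_mem_H0 D hs))
  rw [pm_conj] at h
  convert h using 2
  funext i
  simp only [dab, Pi.mul_apply, Pi.mulSingle_apply, Equiv.symm_apply_eq, h0, h3]

theorem dab_mem_H0 (u : Fˣ) {a b : Fin 6} (hab : a ≠ b) : dd D (dab u a b) ∈ H0 D := by
  obtain ⟨n, rfl⟩ := exists_pow_w D u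
  have : dab (D.w ^ n) a b = dab D.w a b ^ n := by
    simp only [dab, mul_pow, ← Pi.mulSingle_pow, inv_pow]
  rw [this, map_pow]
  exact pow_mem (dab_w_mem D hab) n

theorem Mgrp_le_H0 : Mgrp D ≤ H0 D := by
  intro g hg
  obtain ⟨c, hc, rfl⟩ := (mem_Mgrp D).1 hg
  have : c = dab (c 1) 1 0 * dab (c 2) 2 0 * dab (c 3) 3 0 * dab (c 4) 4 0 * dab (c 5) 5 0 := by
    funext i
    rw [Fin.prod_univ_six] at hc
    have h0 : c 0 = (c 1)⁻¹ * (c 2)⁻¹ * (c 3)⁻¹ * (c 4)⁻¹ * (c 5)⁻¹ := by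
      rw [← mul_inv, ← mul_inv, ← mul_inv, ← mul_inv, eq_inv_iff_mul_eq_one, ← hc]
      ac_rfl
    fin_cases i <;> simp [dab, h0]
  rw [this, map_mul, map_mul, map_mul, map_mul]
  exact mul_mem (mul_mem (mul_mem (mul_mem (dab_mem_H0 D _ (by decide)) (dab_mem_H0 D _ (by decide)))
    (dab_mem_H0 D _ (by decide))) (dab_mem_H0 D _ (by decide))) (dab_mem_H0 D _ (by decide))

theorem H0_le_X0 : H0 D ≤ X0 D := by
  refine (Subgroup.closure_le _).2 ?_
  rintro x (rfl | rfl | rfl)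
  · exact Subgroup.subset_closure ⟨0, rfl⟩
  · exact Subgroup.subset_closure ⟨1, rfl⟩
  · exact Subgroup.subset_closure ⟨2, rfl⟩

theorem tt_inv : (tt D)⁻¹ = tt D := inv_eq_of_mul_eq_one_right (tt_mul_self D)

theorem tt_H0_le : (H0 D).map (MulAut.conj (tt D)).toMonoidHom ≤ X0 D := by
  rw [H0, MonoidHom.map_closure, Subgroup.closure_le]
  rintro _ ⟨x, (rfl | rfl | rfl), rfl⟩
  · show tt D * dd D (tauU D) * (tt D)⁻¹ ∈ X0 D
    rw [tt_inv]
    exact Subgroup.subset_closure ⟨3, rfl⟩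
  · show tt D * pm D perm₁ * (tt D)⁻¹ ∈ X0 D
    rw [← pm_tt, mul_inv_cancel_right]
    exact Subgroup.subset_closure ⟨1, rfl⟩
  · show tt D * pm D perm₂ * (tt D)⁻¹ ∈ X0 D
    rw [← pm_tt, mul_inv_cancel_right]
    exact Subgroup.subset_closure ⟨2, rfl⟩

theorem Mgrp_le_X0 : Mgrp D ≤ X0 D := (Mgrp_le_H0 D).trans (H0_le_X0 D)

theorem pm_mem_X0 {π : Equiv.Perm (Fin 6)} (h : Equiv.Perm.sign π = 1) : pm D π ∈ X0 D :=
  H0_le_X0 D (pm_mem_H0 D h)

theorem tt_Mgrp_mem {m : G6 F} (hm : m ∈ Mgrp D) : tt D * m * tt D ∈ X0 D := by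
  have := tt_H0_le D ⟨m, Mgrp_le_H0 D hm, rfl⟩
  simpa [tt_inv] using this

/-- Containing the diagonal group, the permutations and the transvected diagonal group. -/
theorem X0_le (Y : Subgroup (G6 F)) (hM : Mgrp D ≤ Y)
    (hP : ∀ π, Equiv.Perm.sign π = 1 → pm D π ∈ Y) (hT : ∀ m ∈ Mgrp D, tt D * m * tt D ∈ Y) :
    X0 D ≤ Y := by
  have hτ : dd D (tauU D) ∈ Mgrp D := by
    rw [dd_mem_Mgrp]
    refine Units.ext ?_
    rw [← detU_dd D, Units.val_one]
    exact detU_bEl D 0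
  refine (Subgroup.closure_le _).2 ?_
  rintro _ ⟨i, rfl⟩
  fin_cases i
  · exact hM hτ
  · exact hP _ (by decide)
  · exact hP _ (by decide)
  · exact hT _ hτ

/-- Sum of all but one standard vector, twisted by a diagonal element. -/
def qv (c : Fin 6 → Fˣ) (a : Fin 6) : Fin 6 → F := fun i => if i = a then 0 else (c i : F)

theorem act_dd_tt_single (c : Fin 6 → Fˣ) (a : Fin 6) :
    act (dd D c * tt D) (Pi.single a 1) = qv c a := funext fun i => by
  rw [act_mul, act_dd, act_tt, Finset.sum_pi_single', if_pos (Finset.mem_univ a), qv]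
  by_cases h : i = a
  · subst h; rw [if_pos rfl, Pi.single_eq_same, D.add_self, mul_zero]
  · rw [if_neg h, Pi.single_eq_of_ne h, zero_add, mul_one]

/-- The four twists. -/
noncomputable def dU (n : ℕ) : Fin 6 → Fˣ := fun i => D.w ^ dExp n i

theorem e4_pw {e : ℕ} (he : e < 3) : e4 D.ω (pw e) = D.ω ^ e := by
  interval_cases e
  · simp [e4, pw]
  · simp [e4, pw]
  · simp only [e4, pw]
    show D.ω + 1 = D.ω ^ 2
    linear_combination -D.root + (D.ω + 1) * D.two

theorem pt_zero (a : Fin 6) : pt D.ω 0 a = Pi.single a 1 := funext fun i => by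
  have h := okWit_all
  simp only [okWit, Bool.and_eq_true, List.all_eq_true, List.mem_range, beq_iff_eq] at h
  simp only [pt, fvec, h.1.2 a a.2 i i.2, Pi.single_apply, Fin.val_inj]
  split_ifs <;> rfl

theorem exists_wit (n : Fin 4) :
    ∃ k < 112, ∀ a : Fin 6, ∃ i < 6, ∃ e : F, e ≠ 0 ∧ qv (dU D n) a = e • pt D.ω k i := by
  have h := okWit_all
  simp only [okWit, Bool.and_eq_true, List.all_eq_true, List.mem_range] at h
  obtain ⟨k, pc, hd⟩ : ∃ k pc, wTab.getD n (0, 0) = (k, pc) := ⟨_, _, rfl⟩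
  have h1 := h.1.1 n n.2
  simp only [hd, Bool.and_eq_true, decide_eq_true_eq, List.all_eq_true, List.mem_range, beq_iff_eq] at h1
  refine ⟨k, h1.1, fun a => ?_⟩
  set d := pc / 18 ^ (a : ℕ) % 18 with hdd
  have hd18 : d < 18 := Nat.mod_lt _ (by norm_num)
  refine ⟨d % 6, Nat.mod_lt _ (by norm_num), e4 D.ω (d / 6 + 1), e4_ne_zero D (by omega) (by omega), ?_⟩
  funext i
  rw [Pi.smul_apply, smul_eq_mul, pt, fvec, ← e4_mul_nat D (by omega) (dg4_lt _ _), h1.2 a a.2 i i.2]
  simp only [qv, Fin.val_inj]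
  split_ifs with hia
  · rfl
  · rw [dU, Units.val_pow_eq_pow_val, Four.w, Units.val_mk0, e4_pw]
    unfold dExp; split_ifs <;> norm_num

theorem qv_support (c : Fin 6 → Fˣ) (a i : Fin 6) : qv c a i = 0 ↔ i = a := by
  simp only [qv]
  split_ifs with h <;> simp [h]

/-- An element fixing every frame is scalar. -/
theorem scalar_of_fixes (g : G6 F)
    (hg : ∀ j < 112, ∀ i < 6, ∃ i' < 6, ∃ e : F, e ≠ 0 ∧ act g (pt D.ω j i) = e • pt D.ω j i') :
    ∃ u : Fˣ, g = dd D (fun _ => u) := by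
  obtain ⟨c, π, rfl⟩ : ∃ (c : Fin 6 → Fˣ) (π : Equiv.Perm (Fin 6)), g = dd D c * pm D π := by
    refine mono_of_lines D g fun i => ?_
    obtain ⟨i', hi', e, he, h⟩ := hg 0 (by norm_num) i i.2
    have h0 := pt_zero D ⟨i', hi'⟩
    rw [pt_zero, h0] at h
    exact ⟨⟨i', hi'⟩, by rw [h]; simpa using he, by rw [h]; simp⟩
  have hrel : ∀ (n : Fin 4) (a : Fin 6), ∃ s : F, ∀ k, k ≠ a →
      (c (π k) : F) * (dU D n k : F) = s * (dU D n (π k) : F) := by
    intro n a
    obtain ⟨k, hk, hw⟩ := exists_wit D n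
    choose i hi e he hq using hw
    have hinj : Function.Injective fun a => (⟨i a, hi a⟩ : Fin 6) := by
      intro a b hab
      have hab' : i a = i b := congrArg Fin.val hab
      have ha := congrFun (hq a) a
      have hb := congrFun (hq b) a
      rw [(qv_support _ _ _).2 rfl, Pi.smul_apply, smul_eq_mul, eq_comm, mul_eq_zero,
        or_iff_right (he a), hab'] at ha
      rw [Pi.smul_apply, ha, smul_zero] at hb
      exact (qv_support _ _ _).1 hb
    obtain ⟨i', hi', f, hf, hf'⟩ := hg k hk (i a) (hi a)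
    obtain ⟨b, hb⟩ := (Finite.injective_iff_bijective.1 hinj).2 ⟨i', hi'⟩
    have hb' : i b = i' := congrArg Fin.val hb
    subst hb'
    have key : act (dd D c * pm D π) (qv (dU D n) a) = (e a * f * (e b)⁻¹) • qv (dU D n) b := by
      rw [hq a, act_smul, hf', hq b, smul_smul, smul_smul, mul_assoc _ (e b)⁻¹, inv_mul_cancel₀ (he b),
        mul_one]
    refine ⟨e a * f * (e b)⁻¹, fun l hl => ?_⟩
    have h1 := congrFun key (π a)
    have h2 := congrFun key (π l)
    rw [act_mul, act_dd, act_pm, Equiv.symm_apply_apply, (qv_support _ _ _).2 rfl, mul_zero,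
      Pi.smul_apply, smul_eq_mul, eq_comm, mul_eq_zero, or_iff_right (mul_ne_zero
        (mul_ne_zero (he a) hf) (inv_ne_zero (he b))), qv_support] at h1
    rw [act_mul, act_dd, act_pm, Equiv.symm_apply_apply, Pi.smul_apply, smul_eq_mul, ← h1] at h2
    rw [← h1]
    simpa [qv, hl, π.injective.ne hl] using h2
  have cross : ∀ (n : Fin 4) (k l : Fin 6),
      (c (π k) : F) * (dU D n k : F) * (dU D n (π l) : F) =
        (c (π l) : F) * (dU D n l : F) * (dU D n (π k) : F) := by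
    intro n k l
    obtain ⟨a, hak, hal⟩ := (by decide : ∀ a b : Fin 6, ∃ x, x ≠ a ∧ x ≠ b) k l
    obtain ⟨s, hs⟩ := hrel n a
    rw [hs k hak.symm, hs l hal.symm]; ring
  have hc : ∀ k l, c (π k) = c (π l) := fun k l => Units.ext (by
    simpa [dU, dExp] using cross 0 k l)
  have hπ : π = 1 := perm_fix_twists π fun n k l => by
    have h := cross n k l
    rw [hc k l, mul_assoc, mul_assoc] at h
    have h' := mul_left_cancel₀ (c (π l)).ne_zero h
    rw [← Units.val_mul, ← Units.val_mul, Units.val_inj] at h'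
    simp only [dU, ← pow_add, pow_inj_mod, orderOf_w] at h'
    exact h'
  refine ⟨c 0, ?_⟩
  rw [hπ, map_one, mul_one]
  congr 1
  funext i
  have := hc i 0
  simpa [hπ] using this

theorem mem_center_X0 {g : X0 D} :
    g ∈ Subgroup.center (X0 D) ↔ ∃ u : Fˣ, (g : G6 F) = dd D (fun _ => u) := by
  refine ⟨fun hg => ?_, fun ⟨u, hu⟩ => Subgroup.mem_center_iff.2 fun h => Subtype.ext ?_⟩
  · have hcom : ∀ x ∈ X0 D, x * (g : G6 F) = g * x := fun x hx =>
      congrArg Subtype.val (Subgroup.mem_center_iff.1 hg ⟨x, hx⟩)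
    obtain ⟨c, π, hcπ⟩ := monomial_of_normalises D (g : G6 F) fun m hm => by
      rw [mul_assoc, hcom m (Mgrp_le_X0 D hm), inv_mul_cancel_left]; exact hm
    have hπ : π = 1 := by
      ext1 i
      by_contra hne
      have hne' : i ≠ π i := fun e => hne e.symm
      obtain ⟨x, hx1, hx2⟩ := (by decide : ∀ a b : Fin 6, ∃ x, x ≠ a ∧ x ≠ b) (π i) i
      have h := congrArg (fun y => act y (Pi.single i (1 : F))) (hcom _ (Mgrp_le_X0 D (dab_mem D D.w (π i) x)))
      simp only [hcπ, act_mul, act_dd_single, act_smul, act_pm_single, smul_smul] at h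
      have h' := congrFun h (π i)
      simp only [dab, Pi.mul_apply, Pi.mulSingle_eq_same, Pi.mulSingle_eq_of_ne hx1.symm,
        Pi.mulSingle_eq_of_ne hne', Pi.mulSingle_eq_of_ne hx2.symm, mul_one, Units.val_one,
        Pi.smul_apply, smul_eq_mul, Pi.single_eq_same, one_mul] at h'
      exact D.omega_ne_one (mul_left_cancel₀ (c (π i)).ne_zero (by
        rw [mul_one]; exact h'))
    rw [hπ, map_one, mul_one] at hcπ
    refine ⟨c 0, ?_⟩
    rw [hcπ]
    congr 1
    funext i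
    by_cases hi : i = 0
    · rw [hi]
    obtain ⟨σ, h0, -, hs⟩ : ∃ σ : Equiv.Perm (Fin 6), σ 0 = i ∧ True ∧ Equiv.Perm.sign σ = 1 := by
      obtain ⟨x, hx1, hx2⟩ := (by decide : ∀ a b : Fin 6, ∃ x, x ≠ a ∧ x ≠ b) i i
      obtain ⟨σ, h1, -, h3⟩ := two_transitive i x hx1.symm
      exact ⟨σ, h1, trivial, h3⟩
    have h := hcom _ (pm_mem_X0 D hs)
    rw [hcπ, pm_mul_dd] at h
    have := congrFun (mono_unique D h).1 i
    rw [← h0, Equiv.symm_apply_apply] at this
    rw [← h0]; exact this.symm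
  · show (h : G6 F) * g = g * h
    rw [hu, scalar_comm]

theorem card_center_X0 : Nat.card (Subgroup.center (X0 D)) = 3 := by
  rw [← D.card_units]
  let f : Fˣ → Subgroup.center (X0 D) := fun u =>
    ⟨⟨dd D (fun _ => u), Mgrp_le_X0 D (scalar_mem D u)⟩, (mem_center_X0 D).2 ⟨u, rfl⟩⟩
  refine (Nat.card_eq_of_bijective f ⟨fun u v h => ?_, fun z => ?_⟩).symm
  · have := dd_injective D (congrArg (fun z : Subgroup.center (X0 D) => ((z : X0 D) : G6 F)) h)
    exact congrFun this 0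
  · obtain ⟨u, hu⟩ := (mem_center_X0 D).1 z.2
    exact ⟨u, Subtype.ext (Subtype.ext hu.symm)⟩

/-- The first generator as an element of `X₀`. -/
theorem tau_not_central : (⟨bEl D 0, Subgroup.subset_closure ⟨0, rfl⟩⟩ : X0 D) ∉ Subgroup.center (X0 D) := by
  intro h
  obtain ⟨u, hu⟩ := (mem_center_X0 D).1 h
  have e := dd_injective D (show dd D (tauU D) = dd D (fun _ => u) from hu)
  exact D.w_ne ((congrFun e 0).trans (congrFun e 5).symm)

end Four

section Pair

variable (D : Four F) (E : Nine K)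

/-- `X₀ / Z(X₀) ≅ PSU_4(3)`. -/
theorem nonempty_iso (E : Nine K) : Nonempty ((X0 D) ⧸ Subgroup.center (X0 D) ≃* Cfsg.PSU 4 K 3) := by
  classical
  let snd : pairGrp D E →* X0 D :=
    { toFun := fun p => ⟨p.1.2, pairGrp_snd D E ▸ ⟨p.1, p.2, rfl⟩⟩
      map_one' := rfl
      map_mul' := fun _ _ => rfl }
  let φ : pairGrp D E →* Cfsg.PSU 4 K 3 :=
    (QuotientGroup.mk' _).comp ((MonoidHom.fst _ _).comp (pairGrp D E).subtype)
  let ψ : pairGrp D E →* (X0 D) ⧸ Subgroup.center (X0 D) := (QuotientGroup.mk' _).comp snd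
  have hφ : Function.Surjective φ := by
    intro x
    obtain ⟨A, rfl⟩ := QuotientGroup.mk_surjective x
    have hA : A ∈ (pairGrp D E).map (MonoidHom.fst _ _) := by rw [pairGrp_fst]; trivial
    obtain ⟨p, hp, rfl⟩ := hA
    exact ⟨⟨p, hp⟩, rfl⟩
  have hψ : Function.Surjective ψ := by
    intro x
    obtain ⟨⟨A, hA⟩, rfl⟩ := QuotientGroup.mk_surjective x
    rw [← pairGrp_snd D E] at hA
    obtain ⟨p, hp, rfl⟩ := hA
    exact ⟨⟨p, hp⟩, rfl⟩
  have hker : φ.ker ≤ ψ.ker := by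
    intro p hp
    have hc : p.1.1 ∈ Subgroup.center (S4 K) := (QuotientGroup.eq_one_iff _).1 hp
    refine (QuotientGroup.eq_one_iff _).2 ((mem_center_X0 D).2 ?_)
    exact scalar_of_fixes D _ (fixes_frames D E (rel_of_mem D E p.2) hc)
  let f := φ.liftOfSurjective hφ ⟨ψ, hker⟩
  have hf : ∀ p, f (φ p) = ψ p := fun p => φ.liftOfRightInverse_comp_apply _ _ ⟨ψ, hker⟩ p
  have hfs : Function.Surjective f := fun x => by
    obtain ⟨p, rfl⟩ := hψ x
    exact ⟨φ p, hf p⟩
  have : IsSimpleGroup (Cfsg.PSU 4 K 3) :=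
    psu_isSimpleGroup (n := 4) E.card' (by norm_num) (by norm_num)
  rcases f.normal_ker.eq_bot_or_eq_top with h | h
  · exact ⟨(MulEquiv.ofBijective f ⟨(MonoidHom.ker_eq_bot_iff f).1 h, hfs⟩).symm⟩
  · exfalso
    obtain ⟨x, hx⟩ := hfs (QuotientGroup.mk (⟨bEl D 0, Subgroup.subset_closure ⟨0, rfl⟩⟩ : X0 D))
    have : f x = 1 := MonoidHom.mem_ker.1 (h ▸ Subgroup.mem_top x)
    rw [this, eq_comm, QuotientGroup.eq_one_iff] at hx
    exact tau_not_central D hx

theorem card_X0 (E : Nine K) : Nat.card (X0 D) = 9797760 := by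
  have : CharP K 3 := charP_of_card_eq_prime_pow (f := 2) (p := 3) (by rw [E.card]; rfl)
  rw [Subgroup.card_eq_card_quotient_mul_card_subgroup (Subgroup.center (X0 D)), card_center_X0,
    Nat.card_congr (nonempty_iso D E).some.toEquiv, CfsgLib.UFourThree82.card_psu E.card]

end Pair

end CfsgLib.U43Six
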