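import Cfsg.Agent.Lib.UFourThreeSix.Conj

/-!
Elements of `GU_6(2)` normalising `X₀` have determinant one.
-/

set_option autoImplicit false
set_option linter.unusedSectionVars false

namespace CfsgLib.U43Six

open Matrix CfsgLib.ClassicalGroups

variable {F : Type*} [Field F] [Fintype F] {K : Type*} [Field K] [Fintype K]

/-- A three-cycle on `0 1 2`. -/
def cyc₁ : Equiv.Perm (Fin 6) := perm₁

/-- A three-cycle on `3 4 5`. -/
def cyc₂ : Equiv.Perm (Fin 6) :=
  ⟨![0, 1, 2, 4, 5, 3], ![0, 1, 2, 5, 3, 4], by decide, by decide⟩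

/-- A Sylow subgroup of the alternating group. -/
def R9 : Subgroup (Equiv.Perm (Fin 6)) where
  carrier := {π | Equiv.Perm.sign π = 1 ∧ Commute π cyc₁ ∧ Commute π cyc₂}
  one_mem' := ⟨map_one _, Commute.one_left _, Commute.one_left _⟩
  mul_mem' := fun {a b} ha hb =>
    ⟨by rw [map_mul, ha.1, hb.1, one_mul], ha.2.1.mul_left hb.2.1, ha.2.2.mul_left hb.2.2⟩
  inv_mem' := fun {a} ha => ⟨by rw [map_inv, ha.1, inv_one], ha.2.1.inv_left, ha.2.2.inv_left⟩

theorem card_R9 : Nat.card R9 = 9 := by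
  have h : (Finset.univ.filter fun π : Equiv.Perm (Fin 6) =>
      Equiv.Perm.sign π = 1 ∧ π * cyc₁ = cyc₁ * π ∧ π * cyc₂ = cyc₂ * π).card = 9 := by
    decide +kernel
  rw [← h]
  exact Nat.subtype_card _ fun π => by simp [R9, commute_iff_eq]

theorem R9_moves : ∀ π : Equiv.Perm (Fin 6), Equiv.Perm.sign π = 1 → π * cyc₁ = cyc₁ * π →
    π * cyc₂ = cyc₂ * π → π ≠ 1 →
    (π 0 = 1 ∧ π 1 = 2) ∨ (π 0 = 2 ∧ π 2 = 1) ∨ (π 3 = 4 ∧ π 4 = 5) ∨ (π 3 = 5 ∧ π 5 = 4) := by
  decide +kernel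

theorem cyc_mem : cyc₁ ∈ R9 ∧ cyc₂ ∈ R9 :=
  ⟨⟨by decide, Commute.refl _, show cyc₁ * cyc₂ = cyc₂ * cyc₁ by decide⟩,
    ⟨by decide, show cyc₂ * cyc₁ = cyc₁ * cyc₂ by decide, Commute.refl _⟩⟩

section Four

variable (D : Four F)

/-- A Sylow `3`-subgroup of `X₀`. -/
noncomputable def S0 : Subgroup (G6 F) where
  carrier := {g | ∃ c : Fin 6 → Fˣ, ∏ i, c i = 1 ∧ ∃ π ∈ R9, g = dd D c * pm D π}
  one_mem' := ⟨1, by simp, 1, one_mem _, by rw [map_one, map_one, one_mul]⟩
  mul_mem' := by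
    rintro _ _ ⟨c, hc, π, hπ, rfl⟩ ⟨c', hc', π', hπ', rfl⟩
    refine ⟨c * fun i => c' (π.symm i), ?_, π * π', mul_mem hπ hπ', ?_⟩
    · simp only [Pi.mul_apply, Finset.prod_mul_distrib, hc, Equiv.prod_comp π.symm c', hc', mul_one]
    · rw [map_mul, map_mul, mul_assoc (dd D c), ← mul_assoc (pm D π), pm_mul_dd]
      simp only [mul_assoc]
  inv_mem' := by
    rintro _ ⟨c, hc, π, hπ, rfl⟩
    refine ⟨fun i => (c (π i))⁻¹, ?_, π⁻¹, inv_mem hπ, ?_⟩
    · simp only [Finset.prod_inv_distrib, Equiv.prod_comp π c, hc, inv_one]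
    · rw [_root_.mul_inv_rev, ← map_inv, ← map_inv, pm_mul_dd]
      rfl

theorem S0_le_X0 : S0 D ≤ X0 D := by
  rintro _ ⟨c, hc, π, hπ, rfl⟩
  exact mul_mem (Mgrp_le_X0 D ((dd_mem_Mgrp D).2 hc)) (pm_mem_X0 D hπ.1)

theorem card_S0 : Nat.card (S0 D) = 3 ^ 7 := by
  let f : (prodHom (F := F)).ker × R9 → S0 D := fun x =>
    ⟨dd D x.1.1 * pm D x.2.1, x.1.1, x.1.2, x.2.1, x.2.2, rfl⟩
  have hf : Function.Bijective f := by
    refine ⟨fun x y h => ?_, fun g => ?_⟩
    · obtain ⟨h1, h2⟩ := mono_unique D (congrArg Subtype.val h)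
      exact Prod.ext (Subtype.ext h1) (Subtype.ext h2)
    · obtain ⟨c, hc, π, hπ, e⟩ := g.2
      exact ⟨(⟨c, hc⟩, ⟨π, hπ⟩), Subtype.ext e.symm⟩
  rw [← Nat.card_eq_of_bijective f hf, Nat.card_prod, card_R9,
    ← Subgroup.card_map_of_injective (dd_injective D)]
  show Nat.card (Mgrp D) * 9 = _
  rw [card_Mgrp]
  rfl

/-- The diagonal group is the only elementary abelian subgroup of order 243 of `S0`. -/
theorem eq_Mgrp_of_le_S0 (A : Subgroup (G6 F)) (hA : A ≤ S0 D)
    (hab : ∀ g ∈ A, ∀ h ∈ A, g * h = h * g) (hcard : Nat.card A = 243) : A = Mgrp D := by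
  classical
  choose c hc π hπ hcπ using fun a : A => hA a.2
  let φ : A →* Equiv.Perm (Fin 6) := MonoidHom.mk' π fun a b => by
    refine (mono_unique D (c := c (a * b)) (c' := c a * fun i => c b ((π a).symm i)) ?_).2
    rw [← hcπ, map_mul (dd D), map_mul (pm D), Subgroup.coe_mul, hcπ a, hcπ b, mul_assoc,
      ← mul_assoc (pm D (π a)), pm_mul_dd]
    simp only [mul_assoc]
  have hfix : ∀ (a : A) (k : φ.ker) (i : Fin 6), c (k : A) (π a i) = c (k : A) i := by
    intro a k i
    have h1 : π (k : A) = 1 := MonoidHom.mem_ker.1 k.2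
    have e := hab _ a.2 _ (k : A).2
    rw [hcπ a, hcπ (k : A), h1, map_one, mul_one, mul_assoc, pm_mul_dd, ← mul_assoc, ← mul_assoc,
      ← map_mul, ← map_mul, mul_comm (c (k : A))] at e
    have := congrFun (mono_unique D e).1 (π a i)
    simp only [Pi.mul_apply, Equiv.symm_apply_apply] at this
    exact (mul_left_cancel this).symm
  have hdet : ∀ k : φ.ker, c (k : A) 0 * c (k : A) 1 * c (k : A) 2 * c (k : A) 3 * c (k : A) 4 *
      c (k : A) 5 = 1 := fun k => by rw [← Fin.prod_univ_six]; exact hc _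
  have hext : ∀ k k' : φ.ker, c (k : A) = c (k' : A) → k = k' := by
    intro k k' h
    refine Subtype.ext (Subtype.ext ?_)
    rw [hcπ (k : A), hcπ (k' : A), h, show π (k : A) = 1 from MonoidHom.mem_ker.1 k.2,
      show π (k' : A) = 1 from MonoidHom.mem_ker.1 k'.2]
  have hfull : φ.range = R9 → Nat.card φ.ker ≤ 9 := by
    intro hr
    obtain ⟨a, ha⟩ := MonoidHom.mem_range.1 (hr ▸ cyc_mem.1)
    obtain ⟨b, hb⟩ := MonoidHom.mem_range.1 (hr ▸ cyc_mem.2)
    have ha' : π a = cyc₁ := ha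
    have hb' : π b = cyc₂ := hb
    refine (Nat.card_le_card_of_injective (fun k : φ.ker => (c (k : A) 0, c (k : A) 3)) ?_).trans_eq ?_
    · intro k k' h
      simp only [Prod.mk.injEq] at h
      refine hext k k' (funext fun i => ?_)
      have e := fun x => hfix a x 0
      have e' := fun x => hfix a x 1
      have g := fun x => hfix b x 3
      have g' := fun x => hfix b x 4
      rw [ha'] at e e'
      rw [hb'] at g g'
      change ∀ x : φ.ker, c (x : A) 1 = c (x : A) 0 at e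
      change ∀ x : φ.ker, c (x : A) 2 = c (x : A) 1 at e'
      change ∀ x : φ.ker, c (x : A) 4 = c (x : A) 3 at g
      change ∀ x : φ.ker, c (x : A) 5 = c (x : A) 4 at g'
      fin_cases i <;> simp [e, e', g, g', h.1, h.2]
    · rw [Nat.card_prod, D.card_units]
  have hone : ∀ a : A, π a ≠ 1 → Nat.card φ.ker ≤ 27 := by
    intro a ha
    obtain ⟨h1, h2, h3⟩ := hπ a
    rcases R9_moves _ h1 h2 h3 ha with ⟨m1, m2⟩ | ⟨m1, m2⟩ | ⟨m1, m2⟩ | ⟨m1, m2⟩
    all_goals
      have e := fun x => hfix a x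
    · refine (Nat.card_le_card_of_injective
        (fun k : φ.ker => (c (k : A) 0, c (k : A) 3, c (k : A) 4)) ?_).trans_eq ?_
      · intro k k' h
        simp only [Prod.mk.injEq] at h
        have q : ∀ x : φ.ker, c (x : A) 1 = c (x : A) 0 ∧ c (x : A) 2 = c (x : A) 0 := fun x => by
          have u1 := e x 0; have u2 := e x 1; rw [m1] at u1; rw [m2] at u2; exact ⟨u1, u2.trans u1⟩
        refine hext k k' (funext fun i => ?_)
        have p5 : c (k : A) 5 = c (k' : A) 5 := by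
          have a1 := hdet k; have a2 := hdet k'
          rw [(q k).1, (q k).2, h.1, h.2.1, h.2.2] at a1
          rw [(q k').1, (q k').2] at a2
          exact mul_left_cancel (a1.trans a2.symm)
        fin_cases i <;> simp [q, h.1, h.2.1, h.2.2, p5]
      · rw [Nat.card_prod, Nat.card_prod, D.card_units]
    · refine (Nat.card_le_card_of_injective
        (fun k : φ.ker => (c (k : A) 0, c (k : A) 3, c (k : A) 4)) ?_).trans_eq ?_
      · intro k k' h
        simp only [Prod.mk.injEq] at h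
        have q : ∀ x : φ.ker, c (x : A) 1 = c (x : A) 0 ∧ c (x : A) 2 = c (x : A) 0 := fun x => by
          have u1 := e x 0; have u2 := e x 2; rw [m1] at u1; rw [m2] at u2; exact ⟨u2.trans u1, u1⟩
        refine hext k k' (funext fun i => ?_)
        have p5 : c (k : A) 5 = c (k' : A) 5 := by
          have a1 := hdet k; have a2 := hdet k'
          rw [(q k).1, (q k).2, h.1, h.2.1, h.2.2] at a1
          rw [(q k').1, (q k').2] at a2
          exact mul_left_cancel (a1.trans a2.symm)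
        fin_cases i <;> simp [q, h.1, h.2.1, h.2.2, p5]
      · rw [Nat.card_prod, Nat.card_prod, D.card_units]
    · refine (Nat.card_le_card_of_injective
        (fun k : φ.ker => (c (k : A) 0, c (k : A) 1, c (k : A) 3)) ?_).trans_eq ?_
      · intro k k' h
        simp only [Prod.mk.injEq] at h
        have q : ∀ x : φ.ker, c (x : A) 4 = c (x : A) 3 ∧ c (x : A) 5 = c (x : A) 3 := fun x => by
          have u1 := e x 3; have u2 := e x 4; rw [m1] at u1; rw [m2] at u2; exact ⟨u1, u2.trans u1⟩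
        refine hext k k' (funext fun i => ?_)
        have p2 : c (k : A) 2 = c (k' : A) 2 := by
          have a1 := hdet k; have a2 := hdet k'
          rw [(q k).1, (q k).2, h.1, h.2.1, h.2.2] at a1
          rw [(q k').1, (q k').2] at a2
          exact mul_left_cancel (mul_right_cancel (mul_right_cancel (mul_right_cancel (a1.trans a2.symm))))
        fin_cases i <;> simp [q, h.1, h.2.1, h.2.2, p2]
      · rw [Nat.card_prod, Nat.card_prod, D.card_units]
    · refine (Nat.card_le_card_of_injective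
        (fun k : φ.ker => (c (k : A) 0, c (k : A) 1, c (k : A) 3)) ?_).trans_eq ?_
      · intro k k' h
        simp only [Prod.mk.injEq] at h
        have q : ∀ x : φ.ker, c (x : A) 4 = c (x : A) 3 ∧ c (x : A) 5 = c (x : A) 3 := fun x => by
          have u1 := e x 3; have u2 := e x 5; rw [m1] at u1; rw [m2] at u2; exact ⟨u2.trans u1, u1⟩
        refine hext k k' (funext fun i => ?_)
        have p2 : c (k : A) 2 = c (k' : A) 2 := by
          have a1 := hdet k; have a2 := hdet k'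
          rw [(q k).1, (q k).2, h.1, h.2.1, h.2.2] at a1
          rw [(q k').1, (q k').2] at a2
          exact mul_left_cancel (mul_right_cancel (mul_right_cancel (mul_right_cancel (a1.trans a2.symm))))
        fin_cases i <;> simp [q, h.1, h.2.1, h.2.2, p2]
      · rw [Nat.card_prod, Nat.card_prod, D.card_units]
  have hrle : φ.range ≤ R9 := by
    rintro _ ⟨a, rfl⟩
    exact hπ a
  have hmul := Subgroup.card_mul_index φ.ker
  rw [Subgroup.index_ker, hcard] at hmul
  have hdvd := Subgroup.card_dvd_of_le hrle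
  rw [card_R9] at hdvd
  have hbot : ∀ a : A, π a = 1 := by
    intro a
    by_contra ha
    have h27 := hone a ha
    obtain ⟨n, hn, hn'⟩ := (Nat.dvd_prime_pow Nat.prime_three (m := 2)).1 hdvd
    interval_cases n
    · rw [hn'] at hmul; omega
    · rw [hn'] at hmul; omega
    · have := hfull (Subgroup.eq_of_le_of_card_ge hrle (by rw [card_R9, hn']; norm_num))
      rw [hn'] at hmul; omega
  refine Subgroup.eq_of_le_of_card_ge ?_ (by rw [hcard, card_Mgrp])
  intro g hg
  have := hcπ ⟨g, hg⟩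
  rw [hbot, map_one, mul_one] at this
  rw [show g = _ from this]
  exact (dd_mem_Mgrp D).2 (hc _)

/-- Elementary abelian subgroups of order 243 of `X₀` are conjugate to the diagonal group. -/
theorem exists_Mgrp_conj (E : Nine K) (A : Subgroup (G6 F)) (hA : A ≤ X0 D)
    (hab : ∀ g ∈ A, ∀ h ∈ A, g * h = h * g) (hcard : Nat.card A = 243) :
    ∃ x ∈ X0 D, A = (Mgrp D).map (MulAut.conj x).toMonoidHom := by
  have := Fact.mk Nat.prime_three
  have hfac : (Nat.card (X0 D)).factorization 3 = 7 := by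
    rw [card_X0 D E, show (9797760 : ℕ) = 3 ^ 7 * 4480 by norm_num,
      Nat.factorization_mul (by norm_num) (by norm_num), Nat.factorization_pow, Finsupp.add_apply,
      Finsupp.smul_apply, Nat.Prime.factorization_self Nat.prime_three,
      Nat.factorization_eq_zero_of_not_dvd (by norm_num)]
    rfl
  let S : Sylow 3 (X0 D) := Sylow.ofCard ((S0 D).subgroupOf (X0 D)) (by
    rw [hfac, Nat.card_congr (Subgroup.subgroupOfEquivOfLe (S0_le_X0 D)).toEquiv, card_S0])
  have hp : IsPGroup 3 (A.subgroupOf (X0 D)) := IsPGroup.of_card (n := 5) (by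
    rw [Nat.card_congr (Subgroup.subgroupOfEquivOfLe hA).toEquiv, hcard]; norm_num)
  obtain ⟨Q, hQ⟩ := hp.exists_le_sylow
  obtain ⟨x, hx⟩ := MulAction.exists_smul_eq (X0 D) Q S
  set B := A.map (MulAut.conj (x : G6 F)).toMonoidHom with hB
  have hBS : B ≤ S0 D := by
    rintro _ ⟨a, ha, rfl⟩
    have h1 : x * ⟨a, hA ha⟩ * x⁻¹ ∈ ((x • Q : Sylow 3 (X0 D)) : Subgroup (X0 D)) := by
      rw [Sylow.coe_subgroup_smul]
      exact ⟨⟨a, hA ha⟩, hQ (Subgroup.mem_subgroupOf.2 ha), rfl⟩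
    rw [hx] at h1
    exact h1
  have hBe : B = Mgrp D := eq_Mgrp_of_le_S0 D B hBS
    (by
      rintro _ ⟨a, ha, rfl⟩ _ ⟨b, hb, rfl⟩
      rw [← map_mul, ← map_mul, hab a ha b hb])
    (by rw [hB, Subgroup.card_map_of_injective (MulAut.conj _).injective, hcard])
  refine ⟨(x : G6 F)⁻¹, inv_mem x.2, ?_⟩
  rw [← hBe, hB, Subgroup.map_map]
  conv_lhs => rw [← Subgroup.map_id A]
  congr 1
  exact MonoidHom.ext fun a => by simp [mul_assoc]

/-- Permutation elements normalise `X₀`. -/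
theorem pm_normalises (π : Equiv.Perm (Fin 6)) : X0 D ≤ (X0 D).comap (MulAut.conj (pm D π)).toMonoidHom := by
  refine X0_le D _ (fun m hm => ?_) (fun σ hσ => ?_) fun m hm => ?_
  · have h : pm D π * m * (pm D π)⁻¹ ∈ Mgrp D := by
      have h := mono_conj_Mgrp D 1 π
      rw [map_one, one_mul] at h
      exact h.le ⟨m, hm, rfl⟩
    exact Mgrp_le_X0 D h
  · show pm D π * pm D σ * (pm D π)⁻¹ ∈ X0 D
    rw [← map_inv, ← map_mul, ← map_mul]
    refine pm_mem_X0 D ?_
    rw [map_mul, map_mul, map_inv, hσ, mul_one, mul_inv_cancel]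
  · show pm D π * (tt D * m * tt D) * (pm D π)⁻¹ ∈ X0 D
    have h : pm D π * m * (pm D π)⁻¹ ∈ Mgrp D := by
      have h := mono_conj_Mgrp D 1 π
      rw [map_one, one_mul] at h
      exact h.le ⟨m, hm, rfl⟩
    have e : pm D π * (tt D * m * tt D) * (pm D π)⁻¹ = tt D * (pm D π * m * (pm D π)⁻¹) * tt D := by
      rw [← mul_assoc, ← mul_assoc, pm_tt, mul_assoc _ (tt D), mul_assoc (tt D), mul_assoc (tt D)]
      have : tt D * (pm D π)⁻¹ = (pm D π)⁻¹ * tt D := by rw [← map_inv, pm_tt]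
      simp only [mul_assoc, this]
    rw [e]
    exact tt_Mgrp_mem D h

/-- A diagonal element normalising `X₀` has determinant one. -/
theorem prod_eq_one_of_normalises (E : Nine K) (c : Fin 6 → Fˣ)
    (h : X0 D ≤ (X0 D).comap (MulAut.conj (dd D c)).toMonoidHom) : ∏ i, c i = 1 := by
  set y := dd D c * tt D with hy
  have hA : (Mgrp D).map (MulAut.conj y).toMonoidHom ≤ X0 D := by
    rintro _ ⟨m, hm, rfl⟩
    show y * m * y⁻¹ ∈ X0 D
    have := h (tt_Mgrp_mem D hm)
    rw [Subgroup.mem_comap] at this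
    convert this using 1
    show _ = dd D c * (tt D * m * tt D) * (dd D c)⁻¹
    rw [hy, _root_.mul_inv_rev, tt_inv]
    simp only [mul_assoc]
  obtain ⟨z, hz, hze⟩ := exists_Mgrp_conj D E _ hA
    (by
      rintro _ ⟨a, ha, rfl⟩ _ ⟨b, hb, rfl⟩
      rw [← map_mul, ← map_mul, Mgrp_comm D ha hb])
    (by rw [Subgroup.card_map_of_injective (MulAut.conj _).injective, card_Mgrp])
  obtain ⟨e, ρ, hmono⟩ := monomial_of_normalises D (z⁻¹ * y) fun m hm => by
    obtain ⟨n, hn, hne⟩ : z * m * z⁻¹ ∈ (Mgrp D).map (MulAut.conj y).toMonoidHom := by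
      rw [hze]; exact ⟨m, hm, rfl⟩
    have hne' : y * n * y⁻¹ = z * m * z⁻¹ := hne
    have : (z⁻¹ * y)⁻¹ * m * (z⁻¹ * y) = n := by
      rw [show n = y⁻¹ * (y * n * y⁻¹) * y by group, hne']; group
    rw [this]; exact hn
  rw [← pairGrp_snd D E] at hz
  obtain ⟨p, hp, hpz⟩ := hz
  obtain ⟨k, hk, -, hfr⟩ := rel_of_mem D E hp 0 (by norm_num)
  have hpt : ∀ a : Fin 6, ∃ i < 6, ∃ r : F, r ≠ 0 ∧ pt D.ω k i = r • qv c a := by
    intro a
    obtain ⟨i, hi, r, hr, hri⟩ := hfr (ρ a) (ρ a).2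
    have hq : qv c a = ((e (ρ a) : F) * r) • pt D.ω k i := by
      rw [← act_dd_tt_single D, ← hy, show y = z * (z⁻¹ * y) by group, hmono, act_mul, mono_single,
        act_smul, ← pt_zero D]
      rw [show z = p.2 from hpz.symm, hri, smul_smul]
    have h0 : (e (ρ a) : F) * r ≠ 0 := mul_ne_zero (Units.ne_zero _) hr
    exact ⟨i, hi, _, inv_ne_zero h0, by rw [hq, smul_smul, inv_mul_cancel₀ h0, one_smul]⟩
  obtain ⟨m, hm, α, hα, hp0⟩ := hpt 0
  obtain ⟨n, hn, β, hβ, hq0⟩ := hpt 1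
  have okT := okTwist_all
  simp only [List.all_eq_true, List.mem_range] at okT
  have hT := okT k hk m hm n hn
  have hp' : ∀ i : Fin 6, e4 D.ω (dg4 (fpt k m) i) = α * qv c 0 i := fun i => congrFun hp0 i
  have hq' : ∀ i : Fin 6, e4 D.ω (dg4 (fpt k n) i) = β * qv c 1 i := fun i => congrFun hq0 i
  have hmiss : ∀ (pp : ℕ) (b : Fin 6) (γ : F), γ ≠ 0 →
      (∀ i : Fin 6, e4 D.ω (dg4 pp i) = γ * qv c b i) → misses pp b = true := by
    intro pp b γ hγ hpp
    simp only [misses, List.all_eq_true, List.mem_range, beq_iff_eq]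
    intro i hi
    rw [Bool.eq_iff_iff, beq_iff_eq, beq_iff_eq]
    constructor
    · intro h0
      have := hpp ⟨i, hi⟩
      rw [h0, e4_zero, eq_comm, mul_eq_zero, or_iff_right hγ, qv_support] at this
      exact congrArg Fin.val this
    · rintro rfl
      by_contra h0
      have := hpp b
      rw [(qv_support _ _ _).2 rfl, mul_zero] at this
      exact e4_ne_zero D (dg4_lt _ _) h0 this
  simp only [okTwist, show misses (fpt k m) 0 = true from hmiss _ 0 α hα hp',
    show misses (fpt k n) 1 = true from hmiss _ 1 β hβ hq', Bool.and_self, Bool.not_true,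
    Bool.false_or, beq_iff_eq] at hT
  have hval := congrArg (e4 D.ω) hT
  have lt := dg4_lt
  repeat rw [e4_mul_nat D] at hval
  · have p := fun i : Fin 6 => hp' i
    have q := fun i : Fin 6 => hq' i
    have p1 := p 1; have p2 := p 2; have p3 := p 3; have p4 := p 4; have p5 := p 5
    have q0 := q 0; have q2 := q 2
    simp only [Fin.val_zero, Fin.val_one, Fin.val_two, show ((3 : Fin 6) : ℕ) = 3 from rfl,
      show ((4 : Fin 6) : ℕ) = 4 from rfl, show ((5 : Fin 6) : ℕ) = 5 from rfl] at p1 p2 p3 p4 p5 q0 q2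
    rw [p1, p2, p3, p4, p5, q0, q2, e4_one] at hval
    refine Units.ext ?_
    rw [Units.val_one, ← hval, Units.coe_prod, Fin.prod_univ_six]
    simp only [qv, show (1 : Fin 6) ≠ 0 by decide, show (2 : Fin 6) ≠ 0 by decide,
      show (3 : Fin 6) ≠ 0 by decide, show (4 : Fin 6) ≠ 0 by decide, show (5 : Fin 6) ≠ 0 by decide,
      show (0 : Fin 6) ≠ 1 by decide, show (2 : Fin 6) ≠ 1 by decide, if_false]
    have a3 := D.cube hα; have b3 := D.cube hβ; have c3 := D.cube (c 2).ne_zero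
    linear_combination
      (-((c 0 : F) * c 1 * c 2 * c 3 * c 4 * c 5)) * ((a3 * (α ^ 3 + 1)) + (α ^ 6 * b3) + (α ^ 6 * β ^ 3 * c3))
  all_goals
    repeat first
      | exact lt _ _
      | apply m4_lt_nat

/-- An element normalising `X₀` has determinant one. -/
theorem detU_of_normalises (E : Nine K) (g : G6 F)
    (h : (X0 D).map (MulAut.conj g).toMonoidHom = X0 D) : detU g = 1 := by
  have hA : (Mgrp D).map (MulAut.conj g).toMonoidHom ≤ X0 D := by
    conv_rhs => rw [← h]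
    exact Subgroup.map_mono (Mgrp_le_X0 D)
  obtain ⟨z, hz, hze⟩ := exists_Mgrp_conj D E _ hA
    (by
      rintro _ ⟨a, ha, rfl⟩ _ ⟨b, hb, rfl⟩
      rw [← map_mul, ← map_mul, Mgrp_comm D ha hb])
    (by rw [Subgroup.card_map_of_injective (MulAut.conj _).injective, card_Mgrp])
  obtain ⟨c, ρ, hmono⟩ := monomial_of_normalises D (z⁻¹ * g) fun m hm => by
    obtain ⟨n, hn, hne⟩ : z * m * z⁻¹ ∈ (Mgrp D).map (MulAut.conj g).toMonoidHom := by
      rw [hze]; exact ⟨m, hm, rfl⟩
    have hne' : g * n * g⁻¹ = z * m * z⁻¹ := hne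
    have : (z⁻¹ * g)⁻¹ * m * (z⁻¹ * g) = n := by
      rw [show n = g⁻¹ * (g * n * g⁻¹) * g by group, hne']; group
    rw [this]; exact hn
  have hnorm : X0 D ≤ (X0 D).comap (MulAut.conj (dd D c)).toMonoidHom := by
    intro x hx
    have h1 : (pm D ρ⁻¹) * x * (pm D ρ⁻¹)⁻¹ ∈ X0 D := pm_normalises D ρ⁻¹ hx
    have h2 : g * ((pm D ρ⁻¹) * x * (pm D ρ⁻¹)⁻¹) * g⁻¹ ∈ X0 D := by
      exact h.le ⟨_, h1, rfl⟩
    show dd D c * x * (dd D c)⁻¹ ∈ X0 D
    have := mul_mem (mul_mem (inv_mem hz) h2) hz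
    convert this using 1
    rw [show g = z * (z⁻¹ * g) by group, hmono, map_inv]
    group
  have hprod := prod_eq_one_of_normalises D E c hnorm
  rw [show g = z * (z⁻¹ * g) by group, hmono, map_mul, map_mul, detU_pm, detU_dd, hprod,
    detU_X0 D hz, Units.val_one, one_mul, one_mul]

end Four

end CfsgLib.U43Six
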