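import Cfsg.Agent.Lib.UFourThreeSix.Normaliser

/-!
The three classes of `3.PSU_4(3)` in `SU_6(2)`.
-/

set_option autoImplicit false
set_option linter.unusedSectionVars false

namespace CfsgLib.U43Six

open Matrix CfsgLib.ClassicalGroups

variable {F : Type*} [Field F] [Fintype F] {K : Type*} [Field K] [Fintype K]

theorem map_center_equiv {G H : Type*} [Group G] [Group H] (e : G ≃* H) :
    (Subgroup.center G).map e.toMonoidHom = Subgroup.center H := by
  ext x
  constructor
  · rintro ⟨z, hz, rfl⟩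
    refine Subgroup.mem_center_iff.2 fun y => ?_
    obtain ⟨w, rfl⟩ := e.surjective y
    show e w * e z = e z * e w
    rw [← map_mul, ← map_mul, Subgroup.mem_center_iff.1 hz]
  · intro hx
    refine ⟨e.symm x, Subgroup.mem_center_iff.2 fun y => ?_, e.apply_symm_apply x⟩
    refine e.injective ?_
    rw [map_mul, map_mul, e.apply_symm_apply, Subgroup.mem_center_iff.1 hx]

/-- Properties of a triple cover of `PSU_4(3)`. -/
def IsCover (K : Type*) [Field K] [Fintype K] (G : Type*) [Group G] : Prop :=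
  Nat.card (Subgroup.center G) = 3 ∧ Nonempty (G ⧸ Subgroup.center G ≃* Cfsg.PSU 4 K 3)

theorem IsCover.congr {G H : Type*} [Group G] [Group H] (e : G ≃* H) (h : IsCover K G) : IsCover K H :=
  ⟨by rw [← h.1, ← map_center_equiv e, Subgroup.card_map_of_injective e.injective],
    h.2.map fun i => (QuotientGroup.congr _ _ e (map_center_equiv e)).symm.trans i⟩

variable (D : Four F)

theorem isCover_X0 (E : Nine K) : IsCover K (X0 D) := ⟨card_center_X0 D, nonempty_iso D E⟩

/-- The diagonal representatives of the three classes. -/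
noncomputable def dk (n : ℕ) : G6 F := dd D (Pi.mulSingle 0 (D.w ^ n))

theorem detU_dk (n : ℕ) : detU (dk D n) = ((D.w ^ n : Fˣ) : F) := by
  rw [dk, detU_dd, Fintype.prod_pi_mulSingle']

theorem detU_conj (g : G6 F) {x : G6 F} (hx : detU x = 1) : detU (g * x * g⁻¹) = 1 := by
  rw [map_mul, map_mul, hx, mul_one, ← map_mul, mul_inv_cancel, map_one]

/-- The three subgroups of `SU_6(2)`. -/
noncomputable def Kn (n : ℕ) : Subgroup ↥(Cfsg.SU 6 F 2) :=
  ((X0 D).map (MulAut.conj (dk D n)).toMonoidHom).comap (suToGU 6 F 2)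

theorem map_Kn (n : ℕ) :
    (Kn D n).map (suToGU 6 F 2) = (X0 D).map (MulAut.conj (dk D n)).toMonoidHom := by
  refine Subgroup.map_comap_eq_self ?_
  rintro _ ⟨x, hx, rfl⟩
  obtain ⟨s, hs⟩ := exists_SU_of_GU (n := 6) (q := 2) (dk D n * x * (dk D n)⁻¹)
    (detU_conj _ (detU_X0 D hx))
  exact ⟨s, Subtype.ext (Units.ext hs)⟩

theorem isCover_Kn (E : Nine K) (n : ℕ) : IsCover K (Kn D n) :=
  (isCover_X0 D E).congr
    ((((X0 D).equivMapOfInjective (MulAut.conj (dk D n)).toMonoidHom (MulAut.conj (dk D n)).injective).trans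
      (MulEquiv.subgroupCongr (map_Kn D n).symm)).trans
      ((Kn D n).equivMapOfInjective (suToGU 6 F 2) suToGU_injective).symm)

theorem map_conj_suToGU (L : Subgroup ↥(Cfsg.SU 6 F 2)) (s : ↥(Cfsg.SU 6 F 2)) :
    (L.map (MulAut.conj s).toMonoidHom).map (suToGU 6 F 2) =
      (L.map (suToGU 6 F 2)).map (MulAut.conj (suToGU 6 F 2 s)).toMonoidHom := by
  rw [Subgroup.map_map, Subgroup.map_map]
  congr 1
  exact MonoidHom.ext fun x => by simp

theorem detU_suToGU (s : ↥(Cfsg.SU 6 F 2)) : detU (suToGU 6 F 2 s) = 1 :=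
  (congrArg Matrix.det (suToGU_val (q := 2) s)).trans s.1.2

theorem detU_apply (g : G6 F) : detU g = Matrix.det g.1.val := rfl

theorem detU_inv (g : G6 F) : detU g⁻¹ * detU g = 1 := by rw [← map_mul, inv_mul_cancel, map_one]

theorem not_conj (E : Nine K) {i j : ℕ} (hij : i % 3 ≠ j % 3) :
    ¬ ∃ s, (Kn D i).map (MulAut.conj s).toMonoidHom = Kn D j := by
  rintro ⟨s, hs⟩
  have h := congrArg (Subgroup.map (suToGU 6 F 2)) hs
  rw [map_conj_suToGU, map_Kn, map_Kn] at h
  have h' : (X0 D).map (MulAut.conj ((dk D j)⁻¹ * suToGU 6 F 2 s * dk D i)).toMonoidHom = X0 D := by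
    have h2 := congrArg (Subgroup.map (MulAut.conj (dk D j)⁻¹).toMonoidHom) h
    rw [Subgroup.map_map, Subgroup.map_map, Subgroup.map_map] at h2
    calc _ = _ := congrArg (fun f => (X0 D).map f) (MonoidHom.ext fun x => by simp [mul_assoc])
      _ = _ := h2
      _ = (X0 D).map (MonoidHom.id _) := congrArg (fun f => (X0 D).map f) (MonoidHom.ext fun x => by
        simp [mul_assoc])
      _ = X0 D := Subgroup.map_id _
  have hd := detU_of_normalises D E _ h'
  rw [map_mul, map_mul, detU_suToGU, mul_one, detU_dk] at hd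
  have hj := detU_inv (dk D j)
  rw [detU_dk] at hj
  have heq : D.w ^ i = D.w ^ j := Units.ext (by
    refine mul_left_cancel₀ (a := detU (dk D j)⁻¹) ?_ (hd.trans hj.symm)
    exact left_ne_zero_of_mul_eq_one hj)
  rw [pow_inj_mod, orderOf_w] at heq
  exact hij heq

theorem exists_class (E : Nine K) (L : Subgroup ↥(Cfsg.SU 6 F 2)) (hL : IsCover K L) :
    ∃ s n, n < 3 ∧ L.map (MulAut.conj s).toMonoidHom = Kn D n := by
  set K1 := L.map (suToGU 6 F 2) with hK1
  have h1 : IsCover K K1 := hL.congr (L.equivMapOfInjective (suToGU 6 F 2) suToGU_injective)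
  obtain ⟨i1⟩ := h1.2
  obtain ⟨i0⟩ := nonempty_iso D E
  let Sh : Shape D K1 :=
    { f := (i1.trans i0.symm).toMonoidHom.comp (QuotientGroup.mk' _)
      surj := (i1.trans i0.symm).surjective.comp (QuotientGroup.mk'_surjective _)
      ker := by
        ext x
        simp [MonoidHom.mem_ker]
      center3 := h1.1
      det := by rintro _ ⟨s, -, rfl⟩; exact detU_suToGU s }
  have hcard : Nat.card K1 = Nat.card (X0 D) := by
    rw [Subgroup.card_eq_card_quotient_mul_card_subgroup (Subgroup.center K1),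
      Subgroup.card_eq_card_quotient_mul_card_subgroup (Subgroup.center (X0 D)),
      h1.1, card_center_X0, Nat.card_congr (i1.trans i0.symm).toEquiv]
  obtain ⟨g, hg⟩ := exists_conj Sh hcard
  obtain ⟨m, hm⟩ := exists_pow_w D (Matrix.GeneralLinearGroup.det g.1)
  have hdet : detU g = ((D.w ^ (m % 3) : Fˣ) : F) := by
    rw [← orderOf_w D, pow_mod_orderOf, ← hm, Matrix.GeneralLinearGroup.val_det_apply]
    exact detU_apply g
  obtain ⟨s, hs⟩ := exists_SU_of_GU (n := 6) (q := 2) (g * (dk D (m % 3))⁻¹) (by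
    show detU (g * (dk D (m % 3))⁻¹) = 1
    rw [map_mul, hdet, ← detU_dk D, mul_comm, detU_inv])
  have hs' : suToGU 6 F 2 s = g * (dk D (m % 3))⁻¹ := Subtype.ext (Units.ext hs)
  refine ⟨s⁻¹, m % 3, Nat.mod_lt _ (by norm_num), Subgroup.map_injective suToGU_injective ?_⟩
  rw [map_conj_suToGU, map_Kn, ← hK1, hg, Subgroup.map_map, map_inv, hs']
  congr 1
  exact MonoidHom.ext fun x => by simp [mul_assoc]

/-- Exactly three classes. -/
theorem three_classes (D : Four F) (E : Nine K) :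
    ∃ K₁ K₂ K₃ : Subgroup ↥(Cfsg.SU 6 F 2), (∀ L ∈ [K₁, K₂, K₃], IsCover K L) ∧
      (¬ ∃ g, K₁.map (MulAut.conj g).toMonoidHom = K₂) ∧ (¬ ∃ g, K₁.map (MulAut.conj g).toMonoidHom = K₃) ∧
      (¬ ∃ g, K₂.map (MulAut.conj g).toMonoidHom = K₃) ∧
      ∀ L : Subgroup ↥(Cfsg.SU 6 F 2), IsCover K L →
        ∃ g, L.map (MulAut.conj g).toMonoidHom = K₁ ∨ L.map (MulAut.conj g).toMonoidHom = K₂ ∨
          L.map (MulAut.conj g).toMonoidHom = K₃ := by
  refine ⟨Kn D 0, Kn D 1, Kn D 2, ?_, not_conj D E (by decide), not_conj D E (by decide),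
    not_conj D E (by decide), fun L hL => ?_⟩
  · intro L hL
    simp only [List.mem_cons, List.not_mem_nil, or_false] at hL
    rcases hL with rfl | rfl | rfl <;> exact isCover_Kn D E _
  · obtain ⟨s, n, hn, h⟩ := exists_class D E L hL
    interval_cases n
    · exact ⟨s, Or.inl h⟩
    · exact ⟨s, Or.inr (Or.inl h)⟩
    · exact ⟨s, Or.inr (Or.inr h)⟩

end CfsgLib.U43Six
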