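import Cfsg.Agent.Lib.UFourThreeSix.Uniq

/-!
Uniqueness of `X₀` up to conjugation in `GU_6(2)`, from the two frames of a subgroup of its shape.
-/

set_option autoImplicit false
set_option linter.unusedSectionVars false

namespace CfsgLib.U43Six

open Matrix CfsgLib.ClassicalGroups

variable {F : Type*} [Field F] [Fintype F]

theorem exists_even_pair (a b x y : Fin 6) (hab : a ≠ b) (hxy : x ≠ y) :
    ∃ σ : Equiv.Perm (Fin 6), σ a = x ∧ σ b = y ∧ Equiv.Perm.sign σ = 1 := by
  obtain ⟨σ, h1, h2, h3⟩ := two_transitive a b hab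
  obtain ⟨τ, g1, g2, g3⟩ := two_transitive x y hxy
  refine ⟨τ * σ⁻¹, ?_, ?_, by rw [map_mul, map_inv, h3, g3]; rfl⟩
  · rw [Equiv.Perm.mul_apply, show σ⁻¹ a = 0 from σ.injective (by simp [h1]), g1]
  · rw [Equiv.Perm.mul_apply, show σ⁻¹ b = 3 from σ.injective (by simp [h2]), g2]

theorem exists_avoid : ∀ x j : Fin 6, ∃ m : Fin 6, m ≠ 0 ∧ m ≠ 1 ∧ m ≠ x ∧ m ≠ j := by decide

section Four

variable (D : Four F)

/-- Twelve-term relations with a common twist force a rank-one pattern. -/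
theorem cross_eq {L E A B : F} (hL : L ≠ 0) (h1 : L * A = E * B) (h2 : L * B = E * A) (D : Four F) :
    A = B := by
  have h : (L - E) * (A + B) = 0 := by linear_combination h1 + h2
  rcases mul_eq_zero.1 h with h | h
  · rw [sub_eq_zero] at h
    subst h
    exact mul_left_cancel₀ hL h1
  · linear_combination h - B * D.two

theorem herm_self_supp (x : Fin 6 → F) (D : Four F) [DecidablePred fun i => x i ≠ 0] :
    Cfsg.hermForm 6 F 2 x x = ((Finset.univ.filter fun i => x i ≠ 0).card : F) := by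
  rw [← Finset.sum_boole]
  refine Finset.sum_congr rfl fun i _ => ?_
  split_ifs with h
  · rw [← pow_succ']; exact D.cube h
  · rw [not_ne_iff.1 h, zero_mul]

/-- Six vectors with one zero each and pairwise proportional rows come from one twist. -/
theorem exists_twist (g : Fin 6 → Fin 6 → F) (hz : ∀ x i, g x i = 0 ↔ i = x)
    (hc : ∀ x y i j, x ≠ y → i ≠ x → i ≠ y → j ≠ x → j ≠ y → g x i * g y j = g x j * g y i) :
    ∃ v k : Fin 6 → Fˣ, ∀ x, g x = (k x : F) • qv v x := by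
  have hne : ∀ x i, i ≠ x → g x i ≠ 0 := fun x i h h' => h ((hz x i).1 h')
  let w : Fin 6 → F := fun i => if i = 0 then g 1 0 * g 0 2 * (g 1 2)⁻¹ else g 0 i
  have hw : ∀ i, w i ≠ 0 := fun i => by
    simp only [w]
    split_ifs with h
    · exact mul_ne_zero (mul_ne_zero (hne _ _ (by decide)) (hne _ _ (by decide)))
        (inv_ne_zero (hne _ _ (by decide)))
    · exact hne _ _ h
  have h0 : ∀ x j, x ≠ 0 → j ≠ x → j ≠ 0 → g x 0 * g 0 j * g 1 2 = g x j * (g 1 0 * g 0 2) := by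
    intro x j hx hjx hj
    by_cases hx1 : x = 1
    · subst hx1
      have := hc 1 0 j 2 (by decide) hjx hj (by decide) (by decide)
      linear_combination -(g 1 0) * this
    obtain ⟨m, m0, m1, mx, mj⟩ := exists_avoid x j
    have e1 := hc x 1 0 m hx1 (Ne.symm hx) (by decide) mx m1
    have e2 := hc x 0 m j hx mx m0 hjx hj
    have e3 := hc 1 0 m 2 (by decide) m1 m0 (by decide) (by decide)
    refine mul_right_cancel₀ (hne 1 m m1) ?_
    linear_combination g 0 j * g 1 2 * e1 + g 1 0 * g 1 2 * e2 - g x j * g 1 0 * e3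
  have key : ∀ x i j, i ≠ x → j ≠ x → g x i * w j = g x j * w i := by
    intro x i j hi hj
    by_cases hx : x = 0
    · subst hx
      simp only [w, if_neg hi, if_neg hj]
      ring
    simp only [w]
    by_cases i0 : i = 0 <;> by_cases j0 : j = 0
    · subst i0; subst j0; rfl
    · subst i0
      rw [if_pos rfl, if_neg j0]
      field_simp [hne 1 2 (by decide)]
      linear_combination h0 x j hx hj j0
    · subst j0
      rw [if_pos rfl, if_neg i0]
      field_simp [hne 1 2 (by decide)]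
      linear_combination -(h0 x i hx hi i0)
    · rw [if_neg i0, if_neg j0]
      exact hc x 0 i j hx hi i0 hj j0
  have hr : ∀ x : Fin 6, ∃ r, r ≠ x := by decide
  choose r hr using hr
  refine ⟨fun i => Units.mk0 _ (hw i),
    fun x => Units.mk0 (g x (r x) * (w (r x))⁻¹) (mul_ne_zero (hne _ _ (hr x)) (inv_ne_zero (hw _))),
    fun x => funext fun i => ?_⟩
  simp only [qv, Pi.smul_apply, smul_eq_mul, Units.val_mk0]
  split_ifs with h
  · rw [mul_zero]; exact (hz x i).2 h
  · field_simp [hw (r x)]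
    linear_combination key x i (r x) h (hr x)

variable {D} {K1 : Subgroup (G6 F)}

/-- The two frames of a subgroup of the shape of `X₀` differ by a twisted transvection. -/
theorem frame_rel (Sh : Shape D K1) (P P' : G6 F) (π₁ π₂ : lgrp Sh →* Equiv.Perm (Fin 6))
    (hP : pre Sh 1 = (Mgrp D).map (MulAut.conj P).toMonoidHom)
    (hP' : pre Sh (tt D) = (Mgrp D).map (MulAut.conj P').toMonoidHom)
    (hl₁ : ∀ l : lgrp Sh, ∃ c : Fin 6 → Fˣ, ((l : K1) : G6 F) = P * (dd D c * pm D (π₁ l)) * P⁻¹)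
    (hl₂ : ∀ l : lgrp Sh, ∃ c : Fin 6 → Fˣ, ((l : K1) : G6 F) = P' * (dd D c * pm D (π₂ l)) * P'⁻¹)
    (hr₁ : π₁.range = alternatingGroup (Fin 6)) (hr₂ : π₂.range = alternatingGroup (Fin 6))
    (hk₁ : ∀ l : lgrp Sh, π₁ l = 1 ↔ Sh.f l = 1) (hk₂ : ∀ l : lgrp Sh, π₂ l = 1 ↔ Sh.f l = 1) :
    ∃ (v k : Fin 6 → Fˣ) (σ : Equiv.Perm (Fin 6)), P⁻¹ * P' = dd D v * tt D * (dd D k * pm D σ) := by
  classical
  obtain ⟨R, hR⟩ : ∃ R, R = P⁻¹ * P' := ⟨_, rfl⟩
  obtain ⟨f, hf⟩ : ∃ f : Fin 6 → Fin 6 → F, ∀ b, f b = act R (Pi.single b 1) := ⟨_, fun _ => rfl⟩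
  rw [← hR]
  have get₂ : ∀ σ, Equiv.Perm.sign σ = 1 → ∃ l, π₂ l = σ := fun σ hσ =>
    MonoidHom.mem_range.1 (hr₂ ▸ Equiv.Perm.mem_alternatingGroup.2 hσ)
  have get₁ : ∀ σ, Equiv.Perm.sign σ = 1 → ∃ l, π₁ l = σ := fun σ hσ =>
    MonoidHom.mem_range.1 (hr₁ ▸ Equiv.Perm.mem_alternatingGroup.2 hσ)
  have move : ∀ l : lgrp Sh, ∃ c c' : Fin 6 → Fˣ, ∀ b j,
      (c' (π₂ l b) : F) * f (π₂ l b) (π₁ l j) = (c (π₁ l j) : F) * f b j := by
    intro l
    obtain ⟨c, hc⟩ := hl₁ l
    obtain ⟨c', hc'⟩ := hl₂ l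
    refine ⟨c, c', fun b j => ?_⟩
    have h : R * (dd D c' * pm D (π₂ l)) = dd D c * pm D (π₁ l) * R := by
      have e := hc'.symm.trans hc
      have : dd D c' * pm D (π₂ l) = P'⁻¹ * (P * (dd D c * pm D (π₁ l)) * P⁻¹) * P' := by rw [← e]; group
      rw [this, hR]; group
    have h' := congrFun (congrArg (fun g => act g (Pi.single b (1 : F))) h) (π₁ l j)
    rw [hf, hf]
    rw [act_mul, mono_single, act_smul, Pi.smul_apply, smul_eq_mul, act_mul, act_mul, act_dd, act_pm,
      Equiv.symm_apply_apply] at h'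
    exact h'
  have mne : ∀ (l : lgrp Sh) b j, f (π₂ l b) (π₁ l j) = 0 ↔ f b j = 0 := by
    intro l b j
    obtain ⟨c, c', h⟩ := move l
    constructor <;> intro h0 <;> have := h b j <;> rw [h0, mul_zero] at this
    · exact (mul_eq_zero.1 this.symm).resolve_left (Units.ne_zero _)
    · exact (mul_eq_zero.1 this).resolve_left (Units.ne_zero _)
  have single : ∀ b, ∃ a, (∀ i, f b i ≠ 0 ↔ i = a) ∨ (∀ i, f b i = 0 ↔ i = a) := by
    intro b
    obtain ⟨σ, hσb, hσ5, hσ1, hσ⟩ := exists_five_cycle b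
    obtain ⟨l, rfl⟩ := get₂ σ hσ
    have h5 : π₁ l ^ 5 = 1 := by rw [← map_pow, hk₁, ← hk₂, map_pow, hσ5]
    have h1 : π₁ l ≠ 1 := fun h => hσ1 ((hk₂ l).2 ((hk₁ l).1 h))
    obtain ⟨a, ha⟩ := five_orbit _ h5 h1
    have inv : ∀ (n : ℕ) i, f b ((π₁ l ^ n) i) = 0 ↔ f b i = 0 := by
      intro n
      induction n with
      | zero => intro i; rw [pow_zero]; rfl
      | succ n ih =>
        intro i
        rw [pow_succ', Equiv.Perm.mul_apply]
        have := mne l b ((π₁ l ^ n) i)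
        rw [hσb] at this
        exact this.trans (ih i)
    have others : ∀ i j, i ≠ a → j ≠ a → (f b i = 0 ↔ f b j = 0) := by
      intro i j hi hj
      obtain ⟨n, rfl⟩ := ha i hi j hj
      exact (inv _ i).symm
    have hn : ((Finset.univ.filter fun i => f b i ≠ 0).card : F) = 1 := by
      rw [← herm_self_supp _ D]
      rw [hf, herm_act]
      simp [Cfsg.hermForm, Pi.single_apply]
    obtain ⟨i0, hi0, -⟩ := (by decide : ∀ a b : Fin 6, ∃ x, x ≠ a ∧ x ≠ b) a a
    refine ⟨a, ?_⟩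
    by_cases h : f b i0 = 0
    · refine Or.inl fun i => ⟨fun hi => by_contra fun ha' => hi ((others i0 i hi0 ha').1 h), ?_⟩
      rintro rfl h'
      have : (Finset.univ.filter fun j => f b j ≠ 0) = ∅ := Finset.filter_eq_empty_iff.2 fun j _ hj => by
        by_cases hja : j = i
        · exact hj (hja ▸ h')
        · exact hj ((others i0 j hi0 hja).1 h)
      rw [this, Finset.card_empty, Nat.cast_zero] at hn
      exact zero_ne_one hn
    · refine Or.inr fun i => ⟨fun hi => by_contra fun ha' => h ((others i i0 ha' hi0).1 hi), ?_⟩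
      rintro rfl
      by_contra h'
      have : (Finset.univ.filter fun j => f b j ≠ 0) = Finset.univ :=
        Finset.filter_true_of_mem fun j _ hj => by
          by_cases hja : j = i
          · exact h' (hja ▸ hj)
          · exact h ((others j i0 hja hi0).1 hj)
      rw [this, Finset.card_univ, Fintype.card_fin] at hn
      exact zero_ne_one (α := F) (by linear_combination hn - 3 * D.two)
  choose a ha using single
  have two : ∀ i : Fin 6, ∃ x y : Fin 6, x ≠ i ∧ y ≠ i ∧ x ≠ y := by decide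
  by_cases hA : ∀ b i, f b i ≠ 0 ↔ i = a b
  · exfalso
    obtain ⟨c, σ, hRm⟩ := mono_of_lines D R fun b => ⟨a b, (hf b ▸ (hA b _).2 rfl), funext fun i => by
      rw [← hf]
      by_cases hi : i = a b
      · subst hi; simp
      · rw [Pi.smul_apply, Pi.single_eq_of_ne hi, smul_zero]
        exact not_not.1 fun h => hi ((hA b i).1 h)⟩
    have hpre : pre Sh (tt D) = pre Sh 1 := by
      rw [hP', show P' = P * (dd D c * pm D σ) by rw [← hRm, hR]; group, hP]
      conv_rhs => rw [← mono_conj_Mgrp D c σ]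
      rw [Subgroup.map_map]
      congr 1
      exact MonoidHom.ext fun x => by simp [mul_assoc]
    obtain ⟨k, hk⟩ := Sh.surj (cls D _ (tt_Mgrp_mem D (dab_mem D D.w 0 1)))
    have hmem : (k : G6 F) ∈ pre Sh (tt D) :=
      (mem_pre Sh).2 ⟨k.2, (mem_tImg twist_tt).2 ⟨_, dab_mem D D.w 0 1, hk⟩⟩
    rw [hpre] at hmem
    obtain ⟨_, hmem⟩ := (mem_pre Sh).1 hmem
    obtain ⟨m, hm, hkm⟩ := (mem_tImg twist_one).1 hmem
    obtain ⟨u, hu⟩ := (cls_eq_iff _ _).1 (hk.symm.trans hkm)
    obtain ⟨d, -, rfl⟩ := (mem_Mgrp D).1 hm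
    have h := congrFun (congrArg (fun g => act g (Pi.single 0 (1 : F))) hu) 2
    simp only [one_mul, mul_one, act_mul, act_dd, act_tt, Fin.sum_univ_six, dab, Pi.mul_apply,
      Pi.mulSingle_apply, Pi.single_apply] at h
    norm_num [Fin.ext_iff] at h
    have hw : (D.w : F) = D.ω := rfl
    rw [hw, show (D.ω)⁻¹ = D.ω ^ 2 from inv_eq_of_mul_eq_one_right (by linear_combination D.omega_cube)] at h
    refine mul_ne_zero u.ne_zero D.omega_ne ?_
    linear_combination h + (u : F) * D.root + (u : F) * (D.ω + 2) * D.two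
  push_neg at hA
  obtain ⟨b₀, hb₀⟩ := hA
  have hB₀ : ∀ i, f b₀ i = 0 ↔ i = a b₀ := (ha b₀).resolve_left fun h => by
    obtain ⟨i, hi⟩ := hb₀
    rcases hi with ⟨h1, h2⟩ | ⟨h1, h2⟩
    · exact h2 ((h i).1 h1)
    · exact (h i).2 h2 h1
  have hB : ∀ b i, f b i = 0 ↔ i = a b := by
    intro b
    refine (ha b).resolve_left fun h => ?_
    obtain ⟨σ, hσb, hσ⟩ := exists_even_map b₀ b
    obtain ⟨l, rfl⟩ := get₂ σ hσ
    obtain ⟨x, y, hx, hy, hxy⟩ := two (a b₀)
    have hx' : f (π₂ l b₀) (π₁ l x) ≠ 0 := fun h' => hx ((hB₀ x).1 ((mne l _ _).1 h'))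
    have hy' : f (π₂ l b₀) (π₁ l y) ≠ 0 := fun h' => hy ((hB₀ y).1 ((mne l _ _).1 h'))
    rw [hσb] at hx' hy'
    exact hxy ((π₁ l).injective (((h _).1 hx').trans ((h _).1 hy').symm))
  have hae : ∀ (l : lgrp Sh) b, π₁ l (a b) = a (π₂ l b) := fun l b =>
    (hB _ _).1 ((mne l b (a b)).2 ((hB b _).2 rfl))
  have hinj : Function.Injective a := by
    intro b b' h
    by_contra hne
    have hconst : ∀ x, x ≠ b → a x = a b := by
      intro x hx
      obtain ⟨σ, h1, h2, h3⟩ := exists_even_pair b b' b x hne hx.symm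
      obtain ⟨l, rfl⟩ := get₂ σ h3
      rw [← h2, ← hae, ← h, hae, h1]
    have hall : ∀ x, f x (a b) = 0 := fun x => (hB x _).2 (by
      by_cases hx : x = b
      · rw [hx]
      · rw [hconst x hx])
    have h1 := congrFun (act_inv' R (Pi.single (a b) (1 : F))) (a b)
    rw [vec_sum (act R⁻¹ _), act_sum, Finset.sum_apply, Finset.sum_eq_zero fun x _ => ?_] at h1
    · simp at h1
    · rw [act_smul, Pi.smul_apply]
      rw [← hf, hall, smul_zero]
  let σ : Equiv.Perm (Fin 6) := Equiv.ofBijective a (Finite.injective_iff_bijective.1 hinj)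
  have hσ : ∀ b, σ b = a b := fun b => rfl
  obtain ⟨v, k, hvk⟩ := exists_twist (fun x => f (σ.symm x))
    (fun x i => by rw [hB, ← hσ, Equiv.apply_symm_apply]) (fun x y i j hxy hix hiy hjx hjy => by
      by_cases hij : i = j
      · subst hij; rfl
      obtain ⟨ρ, r1, r2, r3, r4, r5⟩ := exists_double x y i j hxy hix hiy hjx hjy hij
      obtain ⟨l, rfl⟩ := get₁ ρ r5
      have rj : π₁ l j = i := by
        rw [← r3, ← Equiv.Perm.mul_apply, ← pow_two, r4]; rfl
      have fix' : ∀ z, π₁ l z = z → π₂ l (σ.symm z) = σ.symm z := fun z hz => hinj (by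
        rw [← hae, ← hσ, Equiv.apply_symm_apply]; exact hz)
      obtain ⟨c, c', h⟩ := move l
      have a1 := h (σ.symm x) i
      have a2 := h (σ.symm x) j
      have b1 := h (σ.symm y) i
      have b2 := h (σ.symm y) j
      rw [fix' x r1] at a1 a2
      rw [fix' y r2] at b1 b2
      rw [r3] at a1 b1
      rw [rj] at a2 b2
      refine cross_eq (L := (c' (σ.symm x) : F) * (c' (σ.symm y) : F)) (E := (c i : F) * (c j : F))
        (mul_ne_zero (Units.ne_zero _) (Units.ne_zero _)) ?_ ?_ D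
      · linear_combination ((c' (σ.symm y) : F) * f (σ.symm y) j) * a2 +
          ((c i : F) * f (σ.symm x) j) * b1
      · linear_combination ((c' (σ.symm y) : F) * f (σ.symm y) i) * a1 +
          ((c j : F) * f (σ.symm x) i) * b2)
  refine ⟨v, k, σ, act_ext fun b => ?_⟩
  rw [act_mul, mono_single, act_smul, act_dd_tt_single, ← hvk]
  show act R (Pi.single b 1) = f (σ.symm (σ b))
  rw [Equiv.symm_apply_apply, hf]

/-- Every subgroup of the shape of `X₀` is conjugate to it. -/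
theorem exists_conj (Sh : Shape D K1) (hcard : Nat.card K1 = Nat.card (X0 D)) :
    ∃ g : G6 F, K1 = (X0 D).map (MulAut.conj g).toMonoidHom := by
  obtain ⟨P, π₁, hP, hl₁, hr₁, hk₁⟩ := frame_data Sh (twist_one (D := D))
  obtain ⟨P', π₂, hP', hl₂, hr₂, hk₂⟩ := frame_data Sh (twist_tt (D := D))
  obtain ⟨v, k, σ, hR⟩ := frame_rel Sh P P' π₁ π₂ hP hP' hl₁ hl₂ hr₁ hr₂ hk₁ hk₂
  have hpreK : ∀ {s : G6 F}, pre Sh s ≤ K1 := fun {s} g hg => ((mem_pre Sh).1 hg).1
  set g := P * dd D v with hg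
  have hle : X0 D ≤ K1.comap (MulAut.conj g).toMonoidHom := by
    refine X0_le D _ (fun m hm => ?_) (fun π hπ => ?_) fun m hm => ?_
    · obtain ⟨c, hc, rfl⟩ := (mem_Mgrp D).1 hm
      show g * dd D c * g⁻¹ ∈ K1
      refine hpreK (s := 1) ?_
      rw [hP]
      refine ⟨dd D c, hm, ?_⟩
      show P * dd D c * P⁻¹ = _
      rw [hg, mul_assoc P (dd D v) (dd D c), ← map_mul, mul_comm v, map_mul]; group
    · obtain ⟨l, rfl⟩ := MonoidHom.mem_range.1 (hr₁ ▸ Equiv.Perm.mem_alternatingGroup.2 hπ)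
      obtain ⟨c, hc⟩ := hl₁ l
      have hdet := Sh.det _ (l : K1).2
      rw [hc, map_mul, map_mul, mul_comm, ← mul_assoc, ← map_mul, inv_mul_cancel, map_one, one_mul,
        map_mul, detU_pm, mul_one, detU_dd, ← Units.val_one, Units.val_inj] at hdet
      set d : Fin 6 → Fˣ := fun i => v i * (v ((π₁ l).symm i))⁻¹ * (c i)⁻¹ with hd
      have hdM : dd D d ∈ Mgrp D := (dd_mem_Mgrp D).2 (by
        simp only [hd, Finset.prod_mul_distrib, Finset.prod_inv_distrib, hdet, inv_one, mul_one,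
          Equiv.prod_comp (π₁ l).symm v, mul_inv_cancel])
      show g * pm D (π₁ l) * g⁻¹ ∈ K1
      have e : g * pm D (π₁ l) * g⁻¹ = P * dd D d * P⁻¹ * ((l : K1) : G6 F) := by
        have e2 : dd D v * pm D (π₁ l) = dd D d * (dd D c * pm D (π₁ l)) * dd D v := by
          rw [mul_assoc (dd D d), mul_assoc (dd D c), pm_mul_dd, ← mul_assoc (dd D c), ← map_mul,
            ← mul_assoc, ← map_mul]
          congr 2
          funext i
          simp [hd, mul_assoc, mul_left_comm, mul_comm]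
        rw [hc, hg, show P * dd D v * pm D (π₁ l) * (P * dd D v)⁻¹
          = P * (dd D v * pm D (π₁ l)) * (dd D v)⁻¹ * P⁻¹ by group, e2]
        group
      rw [e]
      refine mul_mem (hpreK (s := 1) ?_) (l : K1).2
      rw [hP]; exact ⟨_, hdM, rfl⟩
    · show g * (tt D * m * tt D) * g⁻¹ ∈ K1
      refine hpreK (s := tt D) ?_
      rw [hP']
      have hm' : m ∈ (Mgrp D).map (MulAut.conj (dd D k * pm D σ)).toMonoidHom := by
        rw [mono_conj_Mgrp]; exact hm
      obtain ⟨n, hn, rfl⟩ := hm'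
      refine ⟨n, hn, ?_⟩
      show P' * n * P'⁻¹ = g * (tt D * (dd D k * pm D σ * n * (dd D k * pm D σ)⁻¹) * tt D) * g⁻¹
      rw [show P' = P * (P⁻¹ * P') by group, hR, hg]
      simp only [_root_.mul_inv_rev, tt_inv, mul_assoc]
  refine ⟨g, (Subgroup.eq_of_le_of_card_ge (Subgroup.map_le_iff_le_comap.2 hle) ?_).symm⟩
  rw [hcard, Subgroup.card_map_of_injective (MulAut.conj g).injective]

end Four

end CfsgLib.U43Six
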