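import Cfsg.Agent.Lib.UFourThreeSix.Iso

/-!
Every subgroup `3.PSU_4(3)` of `SU_6(2)` is a `GU_6(2)`-conjugate of `X₀`.
-/

set_option autoImplicit false
set_option linter.unusedSectionVars false

namespace CfsgLib.U43Six

open Matrix CfsgLib.ClassicalGroups

variable {F : Type*} [Field F] [Fintype F]

/-- Order of the preimage of a subgroup. -/
theorem card_comap_surj {G H : Type*} [Group G] [Group H] [Finite G] (f : G →* H)
    (hf : Function.Surjective f) (S : Subgroup H) :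
    Nat.card (S.comap f) = Nat.card f.ker * Nat.card S := by
  have : Finite H := Finite.of_surjective f hf
  have h1 := Subgroup.card_mul_index (S.comap f)
  rw [Subgroup.index_comap_of_surjective S hf] at h1
  have h2 := Subgroup.card_mul_index f.ker
  rw [Subgroup.index_ker, MonoidHom.range_eq_top.2 hf, Subgroup.card_top, ← Subgroup.card_mul_index S,
    ← mul_assoc, ← h1] at h2
  exact (Nat.eq_of_mul_eq_mul_right (Nat.pos_of_ne_zero S.index_ne_zero_of_finite) h2).symm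

theorem exists_five_cycle : ∀ b : Fin 6, ∃ σ : Equiv.Perm (Fin 6),
    σ b = b ∧ σ ^ 5 = 1 ∧ σ ≠ 1 ∧ Equiv.Perm.sign σ = 1 := by
  decide +kernel

theorem five_orbit : ∀ ρ : Equiv.Perm (Fin 6), ρ ^ 5 = 1 → ρ ≠ 1 →
    ∃ a : Fin 6, ∀ i : Fin 6, i ≠ a → ∀ j : Fin 6, j ≠ a → ∃ n : Fin 5, (ρ ^ (n : ℕ)) i = j := by
  decide +kernel

theorem exists_double : ∀ a a' c d : Fin 6, a ≠ a' → c ≠ a → c ≠ a' → d ≠ a → d ≠ a' → c ≠ d →
    ∃ σ : Equiv.Perm (Fin 6), σ a = a ∧ σ a' = a' ∧ σ c = d ∧ σ ^ 2 = 1 ∧ Equiv.Perm.sign σ = 1 := by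
  decide +kernel

theorem exists_reverse : ∀ a b : Fin 6, a ≠ 0 → b ≠ 0 → a ≠ b →
    ∃ π : Equiv.Perm (Fin 6), π 0 = a ∧ π a = 0 ∧ π b = b ∧ Equiv.Perm.sign π = 1 := by
  decide +kernel

theorem exists_even_map (a b : Fin 6) : ∃ σ : Equiv.Perm (Fin 6), σ a = b ∧ Equiv.Perm.sign σ = 1 := by
  obtain ⟨x, hx, -⟩ := (by decide : ∀ a b : Fin 6, ∃ x, x ≠ a ∧ x ≠ b) a a
  obtain ⟨y, hy, -⟩ := (by decide : ∀ a b : Fin 6, ∃ x, x ≠ a ∧ x ≠ b) b b
  obtain ⟨σ, h1, -, h3⟩ := two_transitive a x hx.symm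
  obtain ⟨τ, g1, -, g3⟩ := two_transitive b y hy.symm
  refine ⟨τ * σ⁻¹, ?_, by rw [map_mul, map_inv, h3, g3]; rfl⟩
  rw [Equiv.Perm.mul_apply, show σ⁻¹ a = 0 from σ.injective (by simp [h1]), g1]

section Four

variable (D : Four F)

/-- Monomial elements normalise the diagonal group. -/
theorem mono_conj_Mgrp (c : Fin 6 → Fˣ) (π : Equiv.Perm (Fin 6)) :
    (Mgrp D).map (MulAut.conj (dd D c * pm D π)).toMonoidHom = Mgrp D := by
  have key : ∀ (c : Fin 6 → Fˣ) (π : Equiv.Perm (Fin 6)) (d : Fin 6 → Fˣ),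
      dd D c * pm D π * dd D d * (dd D c * pm D π)⁻¹ = dd D (fun i => d (π.symm i)) := by
    intro c π d
    rw [mul_assoc (dd D c), pm_mul_dd, ← mul_assoc, ← map_mul, mul_comm c, map_mul]
    group
  apply le_antisymm
  · rintro _ ⟨m, hm, rfl⟩
    obtain ⟨d, hd, rfl⟩ := (mem_Mgrp D).1 hm
    show dd D c * pm D π * dd D d * (dd D c * pm D π)⁻¹ ∈ _
    rw [key, dd_mem_Mgrp, Equiv.prod_comp π.symm d, hd]
  · intro m hm
    obtain ⟨d, hd, rfl⟩ := (mem_Mgrp D).1 hm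
    refine ⟨dd D (fun i => d (π i)), (dd_mem_Mgrp D).2 (by rw [Equiv.prod_comp π d, hd]), ?_⟩
    show dd D c * pm D π * dd D (fun i => d (π i)) * (dd D c * pm D π)⁻¹ = dd D d
    rw [key]
    simp

theorem gens_generate (Y : Subgroup (G6 F)) (h : ∀ a : Fin 6, a ≠ 0 → dd D (dab D.w a 0) ∈ Y) :
    Mgrp D ≤ Y := by
  have h' : ∀ (u : Fˣ) (a : Fin 6), a ≠ 0 → dd D (dab u a 0) ∈ Y := by
    intro u a ha
    obtain ⟨n, rfl⟩ := exists_pow_w D u
    have : dab (D.w ^ n) a 0 = dab D.w a 0 ^ n := by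
      simp only [dab, mul_pow, ← Pi.mulSingle_pow, inv_pow]
    rw [this, map_pow]
    exact pow_mem (h a ha) n
  intro g hg
  obtain ⟨c, hc, rfl⟩ := (mem_Mgrp D).1 hg
  have : c = dab (c 1) 1 0 * dab (c 2) 2 0 * dab (c 3) 3 0 * dab (c 4) 4 0 * dab (c 5) 5 0 := by
    funext i
    rw [Fin.prod_univ_six] at hc
    have h0 : c 0 = (c 1)⁻¹ * (c 2)⁻¹ * (c 3)⁻¹ * (c 4)⁻¹ * (c 5)⁻¹ := by
      rw [← mul_inv, ← mul_inv, ← mul_inv, ← mul_inv, eq_inv_iff_mul_eq_one, ← hc]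
      ac_rfl
    fin_cases i <;> simp [dab, h0]
  rw [this, map_mul, map_mul, map_mul, map_mul]
  exact mul_mem (mul_mem (mul_mem (mul_mem (h' _ _ (by decide)) (h' _ _ (by decide)))
    (h' _ _ (by decide))) (h' _ _ (by decide))) (h' _ _ (by decide))

/-- Data of a subgroup with the shape of `X₀`. -/
structure Shape (D : Four F) (K1 : Subgroup (G6 F)) where
  /-- The map onto `X₀` modulo its centre. -/
  f : K1 →* (X0 D) ⧸ Subgroup.center (X0 D)
  surj : Function.Surjective f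
  ker : f.ker = Subgroup.center K1
  center3 : Nat.card (Subgroup.center K1) = 3
  det : ∀ k ∈ K1, detU k = 1

variable {D} {K1 : Subgroup (G6 F)} (Sh : Shape D K1)

/-- Class of an element of `X₀`. -/
noncomputable def cls (D : Four F) (x : G6 F) (hx : x ∈ X0 D) : (X0 D) ⧸ Subgroup.center (X0 D) :=
  QuotientGroup.mk ⟨x, hx⟩

theorem cls_mul {x y : G6 F} (hx : x ∈ X0 D) (hy : y ∈ X0 D) :
    cls D (x * y) (mul_mem hx hy) = cls D x hx * cls D y hy := rfl

theorem cls_eq {x y : G6 F} (hx : x ∈ X0 D) (hy : y ∈ X0 D) (h : x = y) : cls D x hx = cls D y hy := by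
  subst h; rfl

theorem cls_eq_iff {x y : G6 F} (hx : x ∈ X0 D) (hy : y ∈ X0 D) :
    cls D x hx = cls D y hy ↔ ∃ u : Fˣ, y = x * dd D (fun _ => u) := by
  rw [cls, cls, QuotientGroup.eq, mem_center_X0]
  refine exists_congr fun u => ?_
  show x⁻¹ * y = dd D _ ↔ _
  rw [inv_mul_eq_iff_eq_mul]

theorem Shape.center_cube (Sh : Shape D K1) {z : K1} (hz : z ∈ Subgroup.center K1) : z ^ 3 = 1 := by
  have h := pow_card_eq_one' (x := (⟨z, hz⟩ : Subgroup.center K1))
  rw [Sh.center3] at h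
  exact congrArg Subtype.val h

theorem Shape.central {z : K1} (hz : Sh.f z = 1) (g : K1) : g * z = z * g :=
  Subgroup.mem_center_iff.1 (Sh.ker ▸ MonoidHom.mem_ker.2 hz) g

/-- An involution commuting with permutation elements and moving the diagonal group into `X₀`. -/
def Twist (D : Four F) (s : G6 F) : Prop :=
  s * s = 1 ∧ (∀ π, pm D π * s = s * pm D π) ∧ ∀ m ∈ Mgrp D, s * m * s ∈ X0 D

theorem twist_one : Twist D 1 :=
  ⟨one_mul 1, fun π => by rw [mul_one, one_mul], fun m hm => by simpa using Mgrp_le_X0 D hm⟩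

theorem twist_tt : Twist D (tt D) := ⟨tt_mul_self D, pm_tt D, fun _ hm => tt_Mgrp_mem D hm⟩

/-- Lifts of a twisted diagonal group. -/
def Shape.Lift (s : G6 F) (k : K1) : Prop :=
  ∃ m ∈ Mgrp D, ∃ h : s * m * s ∈ X0 D, Sh.f k = cls D (s * m * s) h

theorem lift_comm_gen {s : G6 F} (hs : Twist D s) {a b : Fin 6} (ha : a ≠ 0) (hb : b ≠ 0) (hab : a ≠ b)
    {x y : K1} (hx : Sh.f x = cls D _ (hs.2.2 _ (dab_mem D D.w a 0)))
    (hy : Sh.f y = cls D _ (hs.2.2 _ (dab_mem D D.w b 0))) : x * y = y * x ∧ x ^ 3 = 1 := by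
  obtain ⟨π, h0, h1, h2, hπ⟩ := exists_reverse a b ha hb hab
  obtain ⟨p, hp⟩ := Sh.surj (cls D _ (pm_mem_X0 D hπ))
  have conj : ∀ d : Fin 6 → Fˣ, ∀ hd : dd D d ∈ Mgrp D,
      ∀ hd' : dd D (fun i => d (π.symm i)) ∈ Mgrp D,
      cls D _ (pm_mem_X0 D hπ) * cls D _ (hs.2.2 _ hd) * (cls D _ (pm_mem_X0 D hπ))⁻¹ =
        cls D _ (hs.2.2 _ hd') := by
    intro d hd hd'
    rw [mul_inv_eq_iff_eq_mul, ← cls_mul, ← cls_mul]
    refine cls_eq _ _ ?_
    calc pm D π * (s * dd D d * s) = s * (pm D π * dd D d) * s := by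
          rw [← mul_assoc, ← mul_assoc, hs.2.1, mul_assoc s]
      _ = s * dd D (fun i => d (π.symm i)) * s * pm D π := by
          rw [pm_mul_dd, ← mul_assoc, mul_assoc _ (pm D π) s, hs.2.1, mul_assoc _ s (pm D π)]
  have sA : π.symm a = 0 := by rw [Equiv.symm_apply_eq, h0]
  have s0 : π.symm 0 = a := by rw [Equiv.symm_apply_eq, h1]
  have ea : (fun i => dab D.w a 0 (π.symm i)) = (dab D.w a 0)⁻¹ := by
    funext i
    simp only [dab, Pi.mul_apply, Pi.inv_apply, Pi.mulSingle_apply, Equiv.symm_apply_eq, h0, h1,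
      mul_inv]
    by_cases i1 : i = a <;> by_cases i0 : i = 0 <;> simp_all
  have eb : (fun i => dab D.w b 0 (π.symm i)) = dab D.w b 0 * (dab D.w a 0)⁻¹ := by
    funext i
    simp only [dab, Pi.mul_apply, Pi.inv_apply, Pi.mulSingle_apply, Equiv.symm_apply_eq, h0, h2,
      mul_inv]
    by_cases i1 : i = a <;> by_cases i2 : i = b <;> by_cases i0 : i = 0 <;> simp_all
  have hda : dd D (fun i => dab D.w a 0 (π.symm i)) ∈ Mgrp D := by
    rw [ea, map_inv]; exact inv_mem (dab_mem D _ _ _)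
  have hdb : dd D (fun i => dab D.w b 0 (π.symm i)) ∈ Mgrp D := by
    rw [eb, map_mul, map_inv]; exact mul_mem (dab_mem D _ _ _) (inv_mem (dab_mem D _ _ _))
  have fx : Sh.f (p * x * p⁻¹ * x) = 1 := by
    rw [map_mul, map_mul, map_mul, map_inv, hp, hx, conj _ (dab_mem D _ _ _) hda, ← cls_mul]
    rw [cls, QuotientGroup.eq_one_iff, mem_center_X0]
    refine ⟨1, ?_⟩
    show s * dd D (fun i => dab D.w a 0 (π.symm i)) * s * (s * dd D (dab D.w a 0) * s) = _
    rw [ea, mul_assoc _ s, ← mul_assoc s, ← mul_assoc s, hs.1, one_mul, mul_assoc s, ← mul_assoc _ _ s,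
      ← map_mul, inv_mul_cancel, map_one, one_mul, hs.1, ← map_one (dd D)]
    rfl
  have fy : Sh.f (p * y * p⁻¹ * x * y⁻¹) = 1 := by
    rw [map_mul, map_mul, map_mul, map_mul, map_inv, map_inv, hp, hx, hy, conj _ (dab_mem D _ _ _) hdb,
      ← cls_mul, mul_inv_eq_one]
    refine cls_eq _ _ ?_
    rw [eb, mul_assoc _ s, ← mul_assoc s, ← mul_assoc s, hs.1, one_mul, mul_assoc s, ← mul_assoc _ _ s,
      ← map_mul, inv_mul_cancel_right, ← mul_assoc]
  obtain ⟨z1, hz1, ex⟩ : ∃ z1, Sh.f z1 = 1 ∧ p * x * p⁻¹ = z1 * x⁻¹ :=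
    ⟨_, fx, (mul_inv_cancel_right _ _).symm⟩
  obtain ⟨z2, hz2, ey⟩ : ∃ z2, Sh.f z2 = 1 ∧ p * y * p⁻¹ = z2 * (y * x⁻¹) :=
    ⟨_, fy, by group⟩
  have hsq : ∀ z : K1, Sh.f z = 1 → z = z⁻¹ → z = 1 := by
    intro z hz he
    have h3 := Sh.center_cube (Sh.ker ▸ MonoidHom.mem_ker.2 hz)
    have h2 : z ^ 2 = 1 := by rw [pow_two]; nth_rewrite 2 [he]; exact mul_inv_cancel z
    rw [pow_succ, h2, one_mul] at h3
    exact h3
  constructor
  · have fz : Sh.f (x * y * x⁻¹ * y⁻¹) = 1 := by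
      have hc : Sh.f x * Sh.f y = Sh.f y * Sh.f x := by
        rw [hx, hy, ← cls_mul, ← cls_mul]
        refine cls_eq _ _ ?_
        simp only [mul_assoc]
        rw [← mul_assoc s s, hs.1, one_mul, ← mul_assoc s s, hs.1, one_mul,
          ← mul_assoc (dd D (dab D.w a 0)), ← mul_assoc (dd D (dab D.w b 0)),
          Mgrp_comm D (dab_mem D _ a 0) (dab_mem D _ b 0)]
      rw [map_mul, map_mul, map_mul, map_inv, map_inv, hc]; group
    set z := x * y * x⁻¹ * y⁻¹ with hz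
    have hzy : x * y = z * (y * x) := by rw [hz]; group
    have hpz : p * z * p⁻¹ = z := by rw [Sh.central fz p, mul_inv_cancel_right]
    have c1 := Sh.central hz1
    have c2 := Sh.central hz2
    have step : p * z * p⁻¹ = x⁻¹ * (y * x * y⁻¹) := by
      calc p * z * p⁻¹ = (p * x * p⁻¹) * (p * y * p⁻¹) * (p * x * p⁻¹)⁻¹ * (p * y * p⁻¹)⁻¹ := by
            rw [hz]; group
        _ = (z1 * x⁻¹) * (z2 * (y * x⁻¹)) * (z1 * x⁻¹)⁻¹ * (z2 * (y * x⁻¹))⁻¹ := by rw [ex, ey]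
        _ = z1 * (x⁻¹ * z2) * (y * x⁻¹ * x) * z1⁻¹ * (x * y⁻¹) * z2⁻¹ := by group
        _ = (z1 * z2) * (x⁻¹ * y * z1⁻¹) * (x * y⁻¹) * z2⁻¹ := by rw [c2]; group
        _ = (z1 * z2) * (z1⁻¹ * (x⁻¹ * y)) * (x * y⁻¹) * z2⁻¹ := by
            rw [Sh.central (by rw [map_inv, hz1, inv_one]) (x⁻¹ * y)]
        _ = (z1 * z2 * z1⁻¹) * (x⁻¹ * y * x * y⁻¹) * z2⁻¹ := by group
        _ = z2 * (x⁻¹ * y * x * y⁻¹) * z2⁻¹ := by rw [← c1 z2, mul_inv_cancel_right]
        _ = x⁻¹ * (y * x * y⁻¹) := by rw [← c2, mul_inv_cancel_right]; group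
    have hzz : z = z⁻¹ := by
      conv_lhs => rw [← hpz, step, show y * x * y⁻¹ = z⁻¹ * (x * y) * y⁻¹ by rw [hzy]; group]
      rw [show x⁻¹ * (z⁻¹ * (x * y) * y⁻¹) = (x⁻¹ * z⁻¹) * x by group,
        Sh.central (by rw [map_inv, fz, inv_one]) x⁻¹, inv_mul_cancel_right]
    rw [hzy, hsq z fz hzz, one_mul]
  · have fw : Sh.f (x ^ 3) = 1 := by
      rw [map_pow, hx, pow_succ, pow_two, ← cls_mul, ← cls_mul, cls, QuotientGroup.eq_one_iff, mem_center_X0]
      refine ⟨1, ?_⟩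
      show s * dd D (dab D.w a 0) * s * (s * dd D (dab D.w a 0) * s) * (s * dd D (dab D.w a 0) * s) = _
      simp only [mul_assoc]
      rw [← mul_assoc s s, hs.1, one_mul, ← mul_assoc s s, hs.1, one_mul,
        ← mul_assoc (dd D (dab D.w a 0)) (dd D (dab D.w a 0)), ← map_mul,
        ← mul_assoc (dd D (_ * _)), ← map_mul,
        show dab D.w a 0 * dab D.w a 0 * dab D.w a 0 = 1 from funext fun i => by
          simp only [Pi.mul_apply, Pi.one_apply]
          rw [← pow_two, ← pow_succ]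
          exact D.unit_cube _,
        map_one, one_mul, hs.1, ← map_one (dd D)]
      rfl
    refine hsq _ fw ?_
    calc x ^ 3 = p * x ^ 3 * p⁻¹ := by rw [Sh.central fw p, mul_inv_cancel_right]
      _ = (z1 * x⁻¹) ^ 3 := by rw [← conj_pow, ex]
      _ = z1 ^ 3 * x⁻¹ ^ 3 := (Commute.mul_pow (Sh.central hz1 x⁻¹).symm 3)
      _ = (x ^ 3)⁻¹ := by rw [Sh.center_cube (Sh.ker ▸ MonoidHom.mem_ker.2 hz1), one_mul, inv_pow]

/-- The twisted diagonal group as a subgroup of `X₀` modulo its centre. -/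
noncomputable def tImg (D : Four F) (s : G6 F) : Subgroup ((X0 D) ⧸ Subgroup.center (X0 D)) :=
  (((Mgrp D).map (MulAut.conj s).toMonoidHom).subgroupOf (X0 D)).map (QuotientGroup.mk' _)

theorem inv_eq_of_twist {s : G6 F} (hs : Twist D s) : s⁻¹ = s := inv_eq_of_mul_eq_one_right hs.1

theorem mem_tImg {s : G6 F} (hs : Twist D s) {q : (X0 D) ⧸ Subgroup.center (X0 D)} :
    q ∈ tImg D s ↔ ∃ m, ∃ hm : m ∈ Mgrp D, q = cls D (s * m * s) (hs.2.2 m hm) := by
  constructor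
  · rintro ⟨x, ⟨m, hm, e⟩, rfl⟩
    have e' : s * m * s⁻¹ = (x : G6 F) := e
    refine ⟨m, hm, ?_⟩
    show cls D (x : G6 F) x.2 = _
    exact cls_eq _ _ (by rw [← e', inv_eq_of_twist hs])
  · rintro ⟨m, hm, rfl⟩
    refine ⟨⟨s * m * s, hs.2.2 m hm⟩, ⟨m, hm, ?_⟩, rfl⟩
    show s * m * s⁻¹ = s * m * s
    rw [inv_eq_of_twist hs]

/-- The preimage of the twisted diagonal group, inside `GU₆`. -/
noncomputable def pre (s : G6 F) : Subgroup (G6 F) := ((tImg D s).comap Sh.f).map K1.subtype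

theorem card_pre {s : G6 F} (hs : Twist D s) : Nat.card (pre Sh s) = 243 := by
  set S0 : Subgroup (X0 D) := ((Mgrp D).map (MulAut.conj s).toMonoidHom).subgroupOf (X0 D)
  have hS : Nat.card S0 = 243 := by
    rw [← card_Mgrp D,
      Nat.card_congr ((Mgrp D).equivMapOfInjective (MulAut.conj s).toMonoidHom
        (MulAut.conj s).injective).toEquiv]
    refine Nat.card_congr (Subgroup.subgroupOfEquivOfLe ?_).toEquiv
    rintro _ ⟨m, hm, rfl⟩
    show s * m * s⁻¹ ∈ X0 D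
    rw [inv_eq_of_twist hs]; exact hs.2.2 m hm
  have hle : Subgroup.center (X0 D) ≤ S0 := by
    intro z hz
    obtain ⟨u, hu⟩ := (mem_center_X0 D).1 hz
    refine ⟨dd D (fun _ => u), scalar_mem D u, ?_⟩
    show s * dd D _ * s⁻¹ = (z : G6 F)
    rw [hu, scalar_comm, mul_inv_cancel_right]
  have hc := card_comap_surj (QuotientGroup.mk' (Subgroup.center (X0 D)))
    (QuotientGroup.mk'_surjective _) (tImg D s)
  rw [tImg, Subgroup.comap_map_eq, QuotientGroup.ker_mk', sup_eq_left.2 hle, card_center_X0, hS] at hc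
  rw [pre, Subgroup.card_map_of_injective K1.subtype_injective, card_comap_surj Sh.f Sh.surj, Sh.ker,
    Sh.center3]
  exact hc.symm

theorem mem_pre {s : G6 F} {g : G6 F} :
    g ∈ pre Sh s ↔ ∃ h : g ∈ K1, Sh.f ⟨g, h⟩ ∈ tImg D s :=
  ⟨fun ⟨k, hk, e⟩ => by subst e; exact ⟨k.2, hk⟩, fun ⟨h, hk⟩ => ⟨⟨g, h⟩, hk, rfl⟩⟩

theorem pre_abelian {s : G6 F} (hs : Twist D s) :
    (∀ g ∈ pre Sh s, ∀ h ∈ pre Sh s, g * h = h * g) ∧ ∀ g ∈ pre Sh s, g ^ 3 = 1 := by
  classical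
  choose x hx using fun a : Fin 6 => Sh.surj (cls D _ (hs.2.2 _ (dab_mem D D.w a 0)))
  set gens : Set K1 := {k | (∃ a, a ≠ 0 ∧ x a = k) ∨ Sh.f k = 1} with hgens
  have hcomm : ∀ g ∈ gens, ∀ h ∈ gens, g * h = h * g := by
    rintro g (⟨a, ha, rfl⟩ | hg) h (⟨b, hb, rfl⟩ | hh)
    · by_cases hab : a = b
      · subst hab; rfl
      · exact (lift_comm_gen Sh hs ha hb hab (hx a) (hx b)).1
    · exact Sh.central hh _
    · exact (Sh.central hg _).symm
    · exact Sh.central hh _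
  have hcube : ∀ g ∈ gens, g ^ 3 = 1 := by
    rintro g (⟨a, ha, rfl⟩ | hg)
    · obtain ⟨b, hb, hba⟩ := (by decide : ∀ a b : Fin 6, ∃ x, x ≠ a ∧ x ≠ b) 0 a
      exact (lift_comm_gen Sh hs ha hb (Ne.symm hba) (hx a) (hx b)).2
    · exact Sh.center_cube (Sh.ker ▸ MonoidHom.mem_ker.2 hg)
  have hC : ∀ g ∈ Subgroup.closure gens, ∀ h ∈ Subgroup.closure gens, g * h = h * g := by
    intro g hg
    have h1 : ∀ h ∈ gens, g * h = h * g := by
      intro h hh
      induction hg using Subgroup.closure_induction with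
      | mem y hy => exact hcomm y hy h hh
      | one => rw [one_mul, mul_one]
      | mul y z _ _ hy hz => rw [mul_assoc, hz, ← mul_assoc, hy, mul_assoc]
      | inv y _ hy => rw [eq_mul_inv_iff_mul_eq, mul_assoc, ← hy, inv_mul_cancel_left]
    intro h hh
    induction hh using Subgroup.closure_induction with
    | mem y hy => exact h1 y hy
    | one => rw [one_mul, mul_one]
    | mul y z _ _ hy hz => rw [← mul_assoc, hy, mul_assoc, hz, mul_assoc]
    | inv y _ hy => rw [mul_inv_eq_iff_eq_mul, mul_assoc, hy, inv_mul_cancel_left]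
  have hC3 : ∀ g ∈ Subgroup.closure gens, g ^ 3 = 1 := by
    intro g hg
    induction hg using Subgroup.closure_induction with
    | mem y hy => exact hcube y hy
    | one => exact one_pow 3
    | mul y z hy' hz' hy hz =>
      rw [Commute.mul_pow (hC y hy' z hz') 3, hy, hz, one_mul]
    | inv y _ hy => rw [inv_pow, hy, inv_one]
  have hle : (tImg D s).comap Sh.f ≤ Subgroup.closure gens := by
    intro k hk
    obtain ⟨m, hm, hkm⟩ := (mem_tImg hs).1 hk
    have key : m ∈ {m : G6 F | ∃ hm : m ∈ Mgrp D, ∃ j ∈ Subgroup.closure gens,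
        Sh.f j = cls D (s * m * s) (hs.2.2 m hm)} := by
      let Y : Subgroup (G6 F) :=
        { carrier := {m : G6 F | ∃ hm : m ∈ Mgrp D, ∃ j ∈ Subgroup.closure gens,
            Sh.f j = cls D (s * m * s) (hs.2.2 m hm)}
          mul_mem' := by
            rintro a b ⟨ha, i, hi, ei⟩ ⟨hb, j, hj, ej⟩
            refine ⟨mul_mem ha hb, i * j, mul_mem hi hj, ?_⟩
            rw [map_mul, ei, ej, ← cls_mul]
            exact cls_eq _ _ (by rw [mul_assoc _ s (s * b * s), ← mul_assoc s (s * b) s, ← mul_assoc s s b,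
              hs.1, one_mul, ← mul_assoc, ← mul_assoc s a b])
          one_mem' := ⟨one_mem _, 1, one_mem _, by
            rw [map_one]
            exact (cls_eq _ (one_mem (X0 D)) (by rw [mul_one, hs.1])).symm⟩
          inv_mem' := by
            rintro a ⟨ha, i, hi, ei⟩
            refine ⟨inv_mem ha, i⁻¹, inv_mem hi, ?_⟩
            rw [map_inv, ei]
            refine (inv_eq_of_mul_eq_one_right ?_)
            rw [← cls_mul]
            refine cls_eq _ (one_mem (X0 D)) ?_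
            rw [mul_assoc _ s, ← mul_assoc s (s * a⁻¹) s, ← mul_assoc s s, hs.1, one_mul, ← mul_assoc,
              mul_inv_cancel_right, hs.1] }
      exact gens_generate D Y (fun a ha => ⟨dab_mem D D.w a 0, x a,
        Subgroup.subset_closure (Or.inl ⟨a, ha, rfl⟩), hx a⟩) hm
    obtain ⟨hm', j, hj, ej⟩ := key
    have h1 : Sh.f (j⁻¹ * k) = 1 := by rw [map_mul, map_inv, ej, hkm, inv_mul_cancel]
    have := mul_mem hj (Subgroup.subset_closure (k := gens) (Or.inr h1))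
    rwa [mul_inv_cancel_left] at this
  refine ⟨?_, ?_⟩
  · rintro g ⟨k, hk, rfl⟩ h ⟨l, hl, rfl⟩
    exact congrArg Subtype.val (hC k (hle hk) l (hle hl))
  · rintro g ⟨k, hk, rfl⟩
    exact congrArg Subtype.val (hC3 k (hle hk))

/-- Permutation elements modulo the centre. -/
noncomputable def pImg (D : Four F) : Subgroup ((X0 D) ⧸ Subgroup.center (X0 D)) :=
  (((alternatingGroup (Fin 6)).map (pm D)).subgroupOf (X0 D)).map (QuotientGroup.mk' _)

theorem mem_pImg {q : (X0 D) ⧸ Subgroup.center (X0 D)} :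
    q ∈ pImg D ↔ ∃ π, ∃ h : Equiv.Perm.sign π = 1, q = cls D (pm D π) (pm_mem_X0 D h) := by
  constructor
  · rintro ⟨x, ⟨π, hπ, e⟩, rfl⟩
    refine ⟨π, Equiv.Perm.mem_alternatingGroup.1 hπ, ?_⟩
    show cls D (x : G6 F) x.2 = _
    exact cls_eq _ _ e.symm
  · rintro ⟨π, h, rfl⟩
    exact ⟨⟨pm D π, pm_mem_X0 D h⟩, ⟨π, Equiv.Perm.mem_alternatingGroup.2 h, rfl⟩, rfl⟩

theorem card_pImg : Nat.card (pImg D) = 360 := by
  have halt : Nat.card (alternatingGroup (Fin 6)) = 360 := by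
    rw [nat_card_alternatingGroup, Nat.card_eq_fintype_card, Fintype.card_fin]; rfl
  rw [← halt]
  let f : alternatingGroup (Fin 6) → pImg D := fun π =>
    ⟨cls D (pm D π.1) (pm_mem_X0 D (Equiv.Perm.mem_alternatingGroup.1 π.2)),
      mem_pImg.2 ⟨π.1, Equiv.Perm.mem_alternatingGroup.1 π.2, rfl⟩⟩
  refine (Nat.card_eq_of_bijective f ⟨fun a b h => ?_, fun q => ?_⟩).symm
  · obtain ⟨u, hu⟩ := (cls_eq_iff _ _).1 (congrArg Subtype.val h)
    rw [scalar_comm] at hu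
    refine Subtype.ext ((mono_unique D (c := (1 : Fin 6 → Fˣ)) (c' := fun _ => u) ?_).2).symm
    rw [map_one, one_mul]; exact hu
  · obtain ⟨π, h, e⟩ := mem_pImg.1 q.2
    exact ⟨⟨π, Equiv.Perm.mem_alternatingGroup.2 h⟩, Subtype.ext e.symm⟩

/-- The preimage of the permutation elements. -/
noncomputable def lgrp : Subgroup K1 := (pImg D).comap Sh.f

/-- A frame for a twisted diagonal group and the action of the permutation preimage on it. -/
theorem frame_data (Sh : Shape D K1) {s : G6 F} (hs : Twist D s) :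
    ∃ (P : G6 F) (π : lgrp Sh →* Equiv.Perm (Fin 6)),
      pre Sh s = (Mgrp D).map (MulAut.conj P).toMonoidHom ∧
      (∀ l : lgrp Sh, ∃ c : Fin 6 → Fˣ, ((l : K1) : G6 F) = P * (dd D c * pm D (π l)) * P⁻¹) ∧
      π.range = alternatingGroup (Fin 6) ∧ (∀ l : lgrp Sh, π l = 1 ↔ Sh.f l = 1) := by
  obtain ⟨P, hP⟩ := exists_frame D (pre Sh s)
    (fun g hg => Sh.det g ((mem_pre Sh).1 hg).1) (pre_abelian Sh hs).1 (pre_abelian Sh hs).2 (card_pre Sh hs)
  have hnorm : ∀ (l : lgrp Sh), ∀ e ∈ pre Sh s, ((l : K1) : G6 F)⁻¹ * e * ((l : K1) : G6 F) ∈ pre Sh s := by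
    intro l e he
    obtain ⟨hek, he'⟩ := (mem_pre Sh).1 he
    obtain ⟨π, hπ, hl⟩ := mem_pImg.1 l.2
    obtain ⟨m, hm, hem⟩ := (mem_tImg hs).1 he'
    refine (mem_pre Sh).2 ⟨mul_mem (mul_mem (inv_mem (l : K1).2) hek) (l : K1).2, ?_⟩
    have : (⟨_, mul_mem (mul_mem (inv_mem (l : K1).2) hek) (l : K1).2⟩ : K1) =
        (l : K1)⁻¹ * ⟨e, hek⟩ * (l : K1) := rfl
    rw [this, map_mul, map_mul, map_inv, hl, hem]
    obtain ⟨c, hc, rfl⟩ := (mem_Mgrp D).1 hm
    have hc' : dd D (fun i => c (π i)) ∈ Mgrp D := (dd_mem_Mgrp D).2 (by rw [Equiv.prod_comp π c, hc])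
    refine (mem_tImg hs).2 ⟨_, hc', ?_⟩
    rw [mul_assoc, inv_mul_eq_iff_eq_mul, ← cls_mul, ← cls_mul]
    refine cls_eq _ _ ?_
    calc s * dd D c * s * pm D π = s * (dd D c * pm D π) * s := by
          rw [mul_assoc _ s, ← hs.2.1, ← mul_assoc, mul_assoc s]
      _ = pm D π * (s * dd D (fun i => c (π i)) * s) := by
          rw [show dd D c * pm D π = pm D π * dd D (fun i => c (π i)) by rw [pm_mul_dd]; simp,
            ← mul_assoc s, ← hs.2.1]
          simp only [mul_assoc]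
  have hmono : ∀ l : lgrp Sh, ∃ (c : Fin 6 → Fˣ) (π : Equiv.Perm (Fin 6)),
      P⁻¹ * ((l : K1) : G6 F) * P = dd D c * pm D π := by
    intro l
    refine monomial_of_normalises D _ fun m hm => ?_
    have h := hnorm l (P * m * P⁻¹) (by rw [hP]; exact ⟨m, hm, rfl⟩)
    rw [hP] at h
    obtain ⟨m', hm', e⟩ := h
    have e' : P * m' * P⁻¹ = ((l : K1) : G6 F)⁻¹ * (P * m * P⁻¹) * ((l : K1) : G6 F) := e
    have : (P⁻¹ * ((l : K1) : G6 F) * P)⁻¹ * m * (P⁻¹ * ((l : K1) : G6 F) * P) = m' := by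
      rw [show m' = P⁻¹ * (P * m' * P⁻¹) * P by group, e']; group
    rw [this]; exact hm'
  choose c π hπ using hmono
  let φ : lgrp Sh →* Equiv.Perm (Fin 6) := MonoidHom.mk' π fun a b => by
    have h : dd D (c (a * b)) * pm D (π (a * b)) = dd D (c a * fun i => c b ((π a).symm i)) * pm D (π a * π b) := by
      rw [← hπ, map_mul (dd D), map_mul (pm D)]
      have e : P⁻¹ * (((a * b : lgrp Sh) : K1) : G6 F) * P =
          (P⁻¹ * ((a : K1) : G6 F) * P) * (P⁻¹ * ((b : K1) : G6 F) * P) := by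
        show P⁻¹ * (((a : K1) : G6 F) * ((b : K1) : G6 F)) * P = _
        group
      rw [e, hπ, hπ, mul_assoc, ← mul_assoc (pm D (π a)), pm_mul_dd]
      simp only [mul_assoc]
    exact (mono_unique D h).2
  have hspec : ∀ l : lgrp Sh, ((l : K1) : G6 F) = P * (dd D (c l) * pm D (φ l)) * P⁻¹ := fun l => by
    show _ = P * (dd D (c l) * pm D (π l)) * P⁻¹
    rw [← hπ l]; group
  have hker : ∀ l : lgrp Sh, φ l = 1 ↔ Sh.f l = 1 := by
    intro l
    constructor
    · intro h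
      have hl := hspec l
      rw [h, map_one, mul_one] at hl
      have hdet := Sh.det _ (l : K1).2
      rw [hl, map_mul, map_mul, mul_comm, ← mul_assoc, ← map_mul, inv_mul_cancel, map_one, one_mul,
        detU_dd] at hdet
      have hm : dd D (c l) ∈ Mgrp D := (dd_mem_Mgrp D).2 (Units.ext hdet)
      have hmem : ((l : K1) : G6 F) ∈ pre Sh s := by rw [hP, hl]; exact ⟨_, hm, rfl⟩
      obtain ⟨_, h'⟩ := (mem_pre Sh).1 hmem
      obtain ⟨m, hm', e1⟩ := (mem_tImg hs).1 h'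
      obtain ⟨τ, hτ, e2⟩ := mem_pImg.1 l.2
      obtain ⟨u, hu⟩ := (cls_eq_iff _ _).1 (e2.symm.trans e1)
      obtain ⟨d, hd, rfl⟩ := (mem_Mgrp D).1 hm'
      have : dd D d * pm D 1 = dd D (fun _ => u) * pm D τ := by
        rw [map_one, mul_one, ← scalar_comm]
        have h2 : s * (s * dd D d * s) * s = s * (pm D τ * dd D (fun _ => u)) * s := by rw [hu]
        rw [← mul_assoc s, ← mul_assoc s s, hs.1, one_mul, mul_assoc _ s s, hs.1, mul_one, ← mul_assoc s,
          ← hs.2.1, mul_assoc _ (dd D _) s, ← scalar_comm D u s, ← mul_assoc, mul_assoc _ s s, hs.1,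
          mul_one] at h2
        exact h2
      have hτ1 : τ = 1 := (mono_unique D this).2.symm
      rw [e2, cls, QuotientGroup.eq_one_iff, mem_center_X0]
      refine ⟨1, ?_⟩
      show pm D τ = _
      rw [hτ1, map_one]
      exact (map_one (dd D)).symm
    · intro h
      have hmem : ((l : K1) : G6 F) ∈ pre Sh s :=
        (mem_pre Sh).2 ⟨(l : K1).2, by rw [Subtype.coe_eta, h]; exact one_mem _⟩
      rw [hP] at hmem
      obtain ⟨m, hm, e⟩ := hmem
      obtain ⟨d, -, rfl⟩ := (mem_Mgrp D).1 hm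
      have : dd D d * pm D 1 = dd D (c l) * pm D (φ l) := by
        rw [map_one, mul_one]
        exact mul_left_cancel (mul_right_cancel (e.trans (hspec l)))
      exact (mono_unique D this).2.symm
  refine ⟨P, φ, hP, fun l => ⟨c l, hspec l⟩, ?_, hker⟩
  have hk3 : Nat.card φ.ker = 3 := by
    rw [← Sh.center3, ← Sh.ker]
    refine Nat.card_congr ⟨fun l => ⟨(l : lgrp Sh), MonoidHom.mem_ker.2 ((hker _).1 l.2)⟩,
      fun z => ⟨⟨z, Subgroup.mem_comap.2 (by rw [MonoidHom.mem_ker.1 z.2]; exact one_mem _)⟩,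
        (hker _).2 (MonoidHom.mem_ker.1 z.2)⟩, fun l => rfl, fun z => rfl⟩
  have hl : Nat.card (lgrp Sh) = 1080 := by
    rw [lgrp, card_comap_surj Sh.f Sh.surj, Sh.ker, Sh.center3, card_pImg]
  have hr : Nat.card φ.range = 360 := by
    have h := Subgroup.card_mul_index φ.ker
    rw [hk3, Subgroup.index_ker, hl] at h
    omega
  refine Equiv.Perm.eq_alternatingGroup_of_index_eq_two ?_
  have h := Subgroup.card_mul_index φ.range
  rw [hr, Nat.card_perm, Nat.card_eq_fintype_card, Fintype.card_fin] at h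
  norm_num [Nat.factorial] at h
  omega

end Four

end CfsgLib.U43Six
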